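import Cfsg.Agent.Lib.Sourour.LU
import Cfsg.Agent.Lib.TransposeConj

/-!
Triangular matrices with contiguous eigenvalues and nonzero off-diagonals are similar to a fixed normal form.
-/

set_option autoImplicit false

namespace Cfsg.Agent.Lib.Sourour

open Matrix

variable {F : Type*} [Field F] {n : ℕ}

/-- Diagonal `β`, and ones under the diagonal from position `m` on. -/
def nf (β : Fin n → F) (m : ℕ) : Matrix (Fin n) (Fin n) F :=
  Matrix.of fun i j => if i = j then β i else if j.val + 1 = i.val ∧ m ≤ j.val then 1 else 0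

/-- Hypotheses on the diagonal: simple eigenvalues before `m`, one eigenvalue after. -/
structure Runs (β : Fin n → F) (m : ℕ) (c : F) : Prop where
  sep : ∀ i : Fin n, i.val < m → ∀ j, j ≠ i → β j ≠ β i
  tail : ∀ i : Fin n, m ≤ i.val → β i = c

theorem lo_apply {L : Matrix (Fin n) (Fin n) F} (hz : ∀ i j : Fin n, i < j → L i j = 0) (a : F)
    {u : Fin n → F} {p : Fin n} (hu : ∀ l, l < p → u l = 0) :
    (∀ l, l < p → ((L - a • 1) *ᵥ u) l = 0) ∧ ((L - a • 1) *ᵥ u) p = (L p p - a) * u p ∧
      ∀ q : Fin n, p.val + 1 = q.val → ((L - a • 1) *ᵥ u) q = L q p * u p + (L q q - a) * u q := by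
  have key : ∀ l, ((L - a • 1) *ᵥ u) l = (∑ i, L l i * u i) - a * u l := by
    intro l
    rw [sub_mulVec, smul_mulVec, one_mulVec]
    rfl
  refine ⟨fun l hl => ?_, ?_, fun q hq => ?_⟩
  · rw [key, hu l hl, mul_zero, sub_zero]
    refine Finset.sum_eq_zero fun i _ => ?_
    rcases lt_or_ge i p with hi | hi
    · rw [hu i hi, mul_zero]
    · rw [hz l i (lt_of_lt_of_le hl hi), zero_mul]
  · rw [key, Finset.sum_eq_single p, sub_mul]
    · intro i _ hi
      rcases lt_or_gt_of_ne hi with h | h
      · rw [hu i h, mul_zero]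
      · rw [hz p i h, zero_mul]
    · simp
  · have hpq : p ≠ q := fun h => by rw [h] at hq; omega
    rw [key, Finset.sum_eq_add p q hpq, sub_mul]
    · ring
    · intro i _ hi
      rcases lt_or_gt_of_ne hi.1 with h | h
      · rw [hu i h, mul_zero]
      · rw [hz q i ?_, zero_mul]
        have h' : p.val < i.val := h
        have : i.val ≠ q.val := fun he => hi.2 (Fin.ext he)
        show q.val < i.val
        omega
    · simp
    · simp

theorem lo_similar {L : Matrix (Fin n) (Fin n) F} {β : Fin n → F} {m : ℕ} {c : F} (hr : Runs β m c)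
    (hz : ∀ i j : Fin n, i < j → L i j = 0) (hd : ∀ i, L i i = β i)
    (hn : ∀ i j : Fin n, j.val + 1 = i.val → m ≤ j.val → L i j ≠ 0) :
    ∃ K : Matrix (Fin n) (Fin n) F, IsUnit K.det ∧ L * K = K * nf β m := by
  classical
  -- eigenvectors
  have hex : ∀ i : Fin n, i.val < m →
      ∃ z : Fin n → F, (∀ l, l < i → z l = 0) ∧ z i ≠ 0 ∧ L *ᵥ z = β i • z := by
    intro i hi
    have hd0 : (L - β i • 1).det = 0 := by
      rw [Matrix.det_of_isLowerTriangular]
      · exact Finset.prod_eq_zero (Finset.mem_univ i) (by simp [hd])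
      · intro a b hab
        have hab' : a < b := hab
        simp [hz a b hab', Matrix.one_apply_ne hab'.ne]
    obtain ⟨z, hz0, hzz⟩ := Matrix.exists_mulVec_eq_zero_iff.2 hd0
    obtain ⟨p, hp, hpmin⟩ : ∃ p, z p ≠ 0 ∧ ∀ l, l < p → z l = 0 := by
      have hne : (Finset.univ.filter fun l => z l ≠ 0).Nonempty := by
        obtain ⟨l, hl⟩ := Function.ne_iff.1 hz0
        exact ⟨l, Finset.mem_filter.2 ⟨Finset.mem_univ _, hl⟩⟩
      refine ⟨_, (Finset.mem_filter.1 (Finset.min'_mem _ hne)).2, fun l hl => ?_⟩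
      by_contra h
      exact absurd (Finset.min'_le _ l (Finset.mem_filter.2 ⟨Finset.mem_univ _, h⟩)) (not_le.2 hl)
    have hpp := (lo_apply hz (β i) hpmin).2.1
    rw [hzz, Pi.zero_apply, eq_comm, mul_eq_zero, hd, sub_eq_zero, or_iff_left hp] at hpp
    obtain rfl : p = i := by
      by_contra hne
      exact hr.sep i hi p hne hpp
    refine ⟨z, hpmin, hp, ?_⟩
    rw [sub_mulVec, smul_mulVec, one_mulVec, sub_eq_zero] at hzz
    exact hzz
  choose z hz1 hz2 hz3 using hex
  let col : Fin n → Fin n → F := fun j =>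
    if h : j.val < m then z j h
    else ((L - c • 1) ^ (j.val - m)) *ᵥ Pi.single (⟨m, by omega⟩ : Fin n) 1
  have hchain : ∀ (t : ℕ) (j : Fin n) (hj : j.val = m + t),
      (∀ l, l < j → (((L - c • 1) ^ t) *ᵥ Pi.single (⟨m, by omega⟩ : Fin n) (1 : F)) l = 0) ∧
      (((L - c • 1) ^ t) *ᵥ Pi.single (⟨m, by omega⟩ : Fin n) (1 : F)) j ≠ 0 := by
    intro t
    induction t with
    | zero =>
      intro j hj
      have hjm : (⟨m, by omega⟩ : Fin n) = j := Fin.ext (by simpa using hj.symm)
      simp only [pow_zero, one_mulVec, hjm]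
      exact ⟨fun l hl => Pi.single_eq_of_ne hl.ne 1, by simp⟩
    | succ t ih =>
      intro j hj
      let p : Fin n := ⟨m + t, by omega⟩
      obtain ⟨h1, h2⟩ := ih p rfl
      obtain ⟨g1, g2, g3⟩ := lo_apply hz c h1
      rw [pow_succ', ← mulVec_mulVec]
      refine ⟨fun l hl => ?_, ?_⟩
      · rcases lt_or_ge l p with h | h
        · exact g1 l h
        · have hl' : l.val < j.val := hl
          have hp' : m + t ≤ l.val := h
          obtain rfl : l = p := Fin.ext (show l.val = m + t by omega)
          rw [g2, hd, hr.tail p (show m ≤ m + t by omega), sub_self, zero_mul]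
      · rw [g3 j (show m + t + 1 = j.val by omega), hd, hr.tail j (by omega), sub_self, zero_mul, add_zero]
        exact mul_ne_zero (hn j p (show m + t + 1 = j.val by omega) (show m ≤ m + t by omega)) h2
  have hcol : ∀ j : Fin n, (∀ l, l < j → col j l = 0) ∧ col j j ≠ 0 := by
    intro j
    by_cases h : j.val < m
    · simp only [col, dif_pos h]
      exact ⟨hz1 j h, hz2 j h⟩
    · simp only [col, dif_neg h]
      exact hchain _ j (by omega)
  refine ⟨Matrix.of fun i j => col j i, ?_, ?_⟩
  · rw [isUnit_iff_ne_zero, Matrix.det_of_isLowerTriangular]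
    · exact Finset.prod_ne_zero_iff.2 fun j _ => (hcol j).2
    · intro a b hab
      exact (hcol b).1 a hab
  · refine Matrix.ext fun i j => ?_
    have hL : (L * Matrix.of fun i j => col j i) i j = (L *ᵥ col j) i := rfl
    rw [hL, Matrix.mul_apply]
    by_cases h : j.val < m
    · have hj : col j = z j h := dif_pos h
      rw [hj, hz3 j h, Finset.sum_eq_single j]
      · simp [nf, hj, mul_comm]
      · intro l _ hl
        simp [nf, hl, show ¬m ≤ j.val by omega]
      · simp
    · have hj : col j = ((L - c • 1) ^ (j.val - m)) *ᵥ Pi.single (⟨m, by omega⟩ : Fin n) 1 := dif_neg h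
      have hLj : L *ᵥ col j = c • col j + (L - c • 1) *ᵥ col j := by
        rw [sub_mulVec, smul_mulVec, one_mulVec, add_sub_cancel]
      rw [hLj, Pi.add_apply, Pi.smul_apply, smul_eq_mul]
      by_cases hlast : j.val + 1 < n
      · let q : Fin n := ⟨j.val + 1, hlast⟩
        have hq : col q = (L - c • 1) *ᵥ col j := by
          rw [hj, mulVec_mulVec, ← pow_succ']
          simp only [col, q, dif_neg (show ¬(j.val + 1 < m) by omega)]
          rw [show j.val + 1 - m = j.val - m + 1 by omega]
        rw [Finset.sum_eq_add j q (fun he => by have := congrArg Fin.val he; simp [q] at this)]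
        · rw [← hq]
          have hne : q ≠ j := fun he => by have := congrArg Fin.val he; simp [q] at this
          simp [nf, hne, q, show m ≤ j.val by omega, hr.tail j (by omega), mul_comm]
        · intro l _ hl
          have : l.val ≠ j.val + 1 := fun he => hl.2 (Fin.ext he)
          simp [nf, hl.1, Ne.symm this]
        · simp
        · simp
      · have hzero : (L - c • 1) *ᵥ col j = 0 := by
          obtain ⟨g1, g2, -⟩ := lo_apply hz c (hcol j).1
          funext l
          rcases lt_or_ge l j with hl | hl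
          · exact g1 l hl
          · obtain rfl : l = j := Fin.ext (by
              have h1 : j.val ≤ l.val := hl
              have := l.isLt
              omega)
            rw [g2, hd, hr.tail l (by omega), sub_self, zero_mul, Pi.zero_apply]
        rw [hzero, Pi.zero_apply, add_zero, Finset.sum_eq_single j]
        · simp [nf, hr.tail j (by omega), mul_comm]
        · intro l _ hl
          have : ¬(j.val + 1 = l.val) := by have := l.isLt; omega
          simp [nf, hl, this]
        · simp

theorem up_similar {n : ℕ} {U : Matrix (Fin n) (Fin n) F} {β : Fin n → F} {m : ℕ} {c : F} (hr : Runs β m c)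
    (hz : ∀ i j : Fin n, j < i → U i j = 0) (hd : ∀ i, U i i = β i)
    (hn : ∀ i j : Fin n, i.val + 1 = j.val → m ≤ i.val → U i j ≠ 0) :
    ∃ K : Matrix (Fin n) (Fin n) F, IsUnit K.det ∧ U * K = K * nf β m := by
  obtain ⟨K, hK, hUK⟩ := lo_similar (L := Uᵀ) hr (fun i j h => hz j i h) hd (fun i j h hm => hn j i h hm)
  obtain ⟨C, hC⟩ := Cfsg.Agent.Lib.TransposeConj.isConj_transpose U
  refine ⟨(↑C⁻¹ : Matrix (Fin n) (Fin n) F) * K, ?_, ?_⟩
  · rw [det_mul]
    exact ((Matrix.isUnit_iff_isUnit_det _).1 (Units.isUnit C⁻¹)).mul hK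
  · have h1 : (C : Matrix (Fin n) (Fin n) F) * U = Uᵀ * C := hC
    have h2 : U * (↑C⁻¹ : Matrix (Fin n) (Fin n) F) = (↑C⁻¹ : Matrix (Fin n) (Fin n) F) * Uᵀ := by
      rw [← Units.mul_right_inj C, ← mul_assoc, h1, mul_assoc, Units.mul_inv, mul_one, ← mul_assoc,
        Units.mul_inv, one_mul]
    rw [← mul_assoc, h2, mul_assoc, hUK, mul_assoc]

/-- The inverse of an upper triangular matrix: diagonal and superdiagonal. -/
theorem up_inv {U : Matrix (Fin n) (Fin n) F} {γ : Fin n → F} (hγ : ∀ i, γ i ≠ 0)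
    (hz : ∀ i j : Fin n, j < i → U i j = 0) (hd : ∀ i, U i i = γ i) :
    ∃ Y : Matrix (Fin n) (Fin n) F, U * Y = 1 ∧ Y * U = 1 ∧ (∀ i j : Fin n, j < i → Y i j = 0) ∧
      (∀ i, Y i i = (γ i)⁻¹) ∧ ∀ i j : Fin n, i.val + 1 = j.val → Y i j = -((γ i)⁻¹ * U i j * (γ j)⁻¹) := by
  have hdet : U.det = ∏ i, γ i := by
    rw [Matrix.det_of_isUpperTriangular (fun a b h => hz a b h)]
    exact Finset.prod_congr rfl fun i _ => hd i
  have hu : IsUnit U.det := by
    rw [hdet, isUnit_iff_ne_zero]
    exact Finset.prod_ne_zero_iff.2 fun i _ => hγ i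
  haveI : Invertible U := U.invertibleOfIsUnitDet hu
  have hY : ∀ i j : Fin n, j < i → U⁻¹ i j = 0 := fun i j h =>
    Matrix.blockTriangular_inv_of_blockTriangular (b := id) (fun a b hab => hz a b hab) h
  have hUY : U * U⁻¹ = 1 := Matrix.mul_nonsing_inv U hu
  have hdiag : ∀ i, U⁻¹ i i = (γ i)⁻¹ := by
    intro i
    have h := congrFun (congrFun hUY i) i
    rw [Matrix.mul_apply, Finset.sum_eq_single i, hd, Matrix.one_apply_eq] at h
    · exact eq_inv_of_mul_eq_one_right h
    · intro l _ hl
      rcases lt_or_gt_of_ne hl with h' | h'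
      · rw [hz i l h', zero_mul]
      · rw [hY l i h', mul_zero]
    · simp
  refine ⟨U⁻¹, hUY, Matrix.nonsing_inv_mul U hu, hY, hdiag, fun i j hij => ?_⟩
  have hne : i ≠ j := fun h => by rw [h] at hij; omega
  have h := congrFun (congrFun hUY i) j
  rw [Matrix.mul_apply, Finset.sum_eq_add i j hne, hd, hdiag, Matrix.one_apply_ne hne] at h
  · rw [← eq_sub_iff_add_eq, zero_sub] at h
    rw [← inv_mul_cancel_left₀ (hγ i) (U⁻¹ i j), h]
    ring
  · intro l _ hl
    by_cases h' : l < i
    · rw [hz i l h', zero_mul]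
    · have h1 : i.val ≤ l.val := Fin.le_def.1 (not_lt.1 h')
      have h2 : l.val ≠ i.val := fun he => hl.1 (Fin.ext he)
      have h3 : l.val ≠ j.val := fun he => hl.2 (Fin.ext he)
      rw [hY l j (Fin.lt_def.2 (by omega)), mul_zero]
  · simp
  · simp

end Cfsg.Agent.Lib.Sourour
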