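import Cfsg.Agent.Lib.Sourour.Vec

/-!
The choice of the covector in the triangular factorisation.
-/

set_option autoImplicit false

namespace Cfsg.Agent.Lib.Sourour

open Matrix Module

variable {F : Type*} [Field F] {k : ℕ}

/-- The covectors killing `z`. -/
def kerDot (z : Fin k → F) : Submodule F (Fin k → F) where
  carrier := {f | f ⬝ᵥ z = 0}
  add_mem' := by
    intro a b ha hb
    simp only [Set.mem_ofPred_eq] at ha hb ⊢
    rw [add_dotProduct, ha, hb, add_zero]
  zero_mem' := by simp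
  smul_mem' := by
    intro c a ha
    simp only [Set.mem_ofPred_eq] at ha ⊢
    rw [smul_dotProduct, ha, smul_zero]

theorem mem_kerDot {z f : Fin k → F} : f ∈ kerDot z ↔ f ⬝ᵥ z = 0 := Iff.rfl

theorem finrank_kerDot (z : Fin k → F) : k - 1 ≤ finrank F (kerDot z) := by
  let φ : (Fin k → F) →ₗ[F] F :=
    { toFun := fun f => f ⬝ᵥ z
      map_add' := fun a b => add_dotProduct a b z
      map_smul' := fun c a => smul_dotProduct c a z }
  have h1 := φ.finrank_range_add_finrank_ker
  rw [finrank_pi, Fintype.card_fin] at h1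
  have h2 : finrank F (LinearMap.range φ) ≤ 1 := (Submodule.finrank_le _).trans (Module.finrank_self F).le
  have h3 : LinearMap.ker φ = kerDot z := by ext f; exact Iff.rfl
  rw [h3] at h1
  omega

theorem finrank_span_singleton_le (z : Fin k → F) : finrank F (Submodule.span F ({z} : Set (Fin k → F))) ≤ 1 := by
  refine (finrank_span_le_card ({z} : Set (Fin k → F))).trans ?_
  simp

theorem finrank_span_two_le (z z' : Fin k → F) :
    finrank F (Submodule.span F ({z, z'} : Set (Fin k → F))) ≤ 2 := by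
  classical
  refine (finrank_span_le_card ({z, z'} : Set (Fin k → F))).trans ?_
  simp only [Set.toFinset_insert, Set.toFinset_singleton]
  exact Finset.card_le_two

/-- The covectors killing the image of `N`. -/
def annRange (N : Matrix (Fin k) (Fin k) F) : Submodule F (Fin k → F) := LinearMap.ker N.vecMulLinear

/-- The covectors killing `S`. -/
def annSub (S : Submodule F (Fin k → F)) : Submodule F (Fin k → F) where
  carrier := {f | ∀ u ∈ S, f ⬝ᵥ u = 0}
  add_mem' := by
    intro a b ha hb u hu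
    rw [add_dotProduct, ha u hu, hb u hu, add_zero]
  zero_mem' := by intro u _; simp
  smul_mem' := by
    intro c a ha u hu
    rw [smul_dotProduct, ha u hu, smul_zero]

section setting

variable (A : Matrix (Fin k) (Fin k) F) (v f : Fin k → F)

/-- The compression to the kernel of `f` is the scalar `c`. -/
def BadScalar (c : F) : Prop := ∀ u, f ⬝ᵥ u = 0 → ∃ d : F, A *ᵥ u - c • u = d • (A *ᵥ v)

/-- The compression to the kernel of `f` is the identity plus a map of rank one. -/
def BadRank : Prop :=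
  ∃ r : Fin k → F, ∀ u, f ⬝ᵥ u = 0 → ∃ c d : F, (A - 1) *ᵥ u = c • (A *ᵥ v) + d • r

end setting

/-- The conditions on the covector. -/
structure CovOK (A : Matrix (Fin k) (Fin k) F) (y v f : Fin k → F) : Prop where
  fv : f ⬝ᵥ v = 1
  fw : f ⬝ᵥ ((A - 1) *ᵥ v) = 0
  fy : f ⬝ᵥ y ≠ 0
  fM : f ᵥ* (A - 1) ≠ 0
  scalar : 3 ≤ k → ∀ c : F, ¬BadScalar A v f c
  rank : 4 ≤ k → ¬BadRank A v f
  trace : k = 3 → f ⬝ᵥ ((A - 1) *ᵥ ((A - 1) *ᵥ v)) ≠ A.trace - 3

theorem CovOK.of_scale {A : Matrix (Fin k) (Fin k) F} {y v f : Fin k → F} (h1 : f ⬝ᵥ v ≠ 0)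
    (h2 : f ⬝ᵥ ((A - 1) *ᵥ v) = 0) (h3 : f ⬝ᵥ y ≠ 0) (h4 : f ᵥ* (A - 1) ≠ 0)
    (h5 : 3 ≤ k → ∀ c : F, ¬BadScalar A v f c) (h6 : 4 ≤ k → ¬BadRank A v f)
    (h7 : k = 3 → f ⬝ᵥ ((A - 1) *ᵥ ((A - 1) *ᵥ v) - (A.trace - 3) • v) ≠ 0) :
    CovOK A y v ((f ⬝ᵥ v)⁻¹ • f) := by
  set a := (f ⬝ᵥ v)⁻¹ with ha
  have ha0 : a ≠ 0 := inv_ne_zero h1
  have hk : ∀ u, (a • f) ⬝ᵥ u = 0 ↔ f ⬝ᵥ u = 0 := fun u => by
    rw [smul_dotProduct, smul_eq_mul, mul_eq_zero, or_iff_right ha0]
  refine ⟨?_, ?_, ?_, ?_, ?_, ?_, ?_⟩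
  · rw [smul_dotProduct, smul_eq_mul, inv_mul_cancel₀ h1]
  · exact (hk _).2 h2
  · exact fun h => h3 ((hk _).1 h)
  · rw [smul_vecMul]
    exact smul_ne_zero ha0 h4
  · intro hk3 c hb
    exact h5 hk3 c fun u hu => hb u ((hk u).2 hu)
  · rintro hk4 ⟨r, hr⟩
    exact h6 hk4 ⟨r, fun u hu => hr u ((hk u).2 hu)⟩
  · intro hk3 hb
    refine h7 hk3 ?_
    rw [smul_dotProduct, smul_eq_mul] at hb
    rw [dotProduct_sub, dotProduct_smul, smul_eq_mul]
    rw [ha, inv_mul_eq_iff_eq_mul₀ h1] at hb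
    rw [hb]
    ring

/-- Two independent covectors killing `w` have a common kernel of codimension two, and together span. -/
theorem pair_split {f g : Fin k → F} (hfg : g ∉ Submodule.span F ({f} : Set (Fin k → F))) :
    ∃ u₀ : Fin k → F, f ⬝ᵥ u₀ = 0 ∧ g ⬝ᵥ u₀ ≠ 0 ∧
      ∀ z : Fin k → F, ∃ (u : Fin k → F) (s : F), g ⬝ᵥ u = 0 ∧ z = u + s • u₀ := by
  obtain ⟨u₀, h1, h2⟩ := exists_dot hfg
  refine ⟨u₀, ?_, fun h => h2 (by rwa [dotProduct_comm]), fun z =>
    ⟨z - ((g ⬝ᵥ z) / (u₀ ⬝ᵥ g)) • u₀, (g ⬝ᵥ z) / (u₀ ⬝ᵥ g), ?_, (sub_add_cancel _ _).symm⟩⟩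
  · rw [dotProduct_comm]
    exact h1 f (Submodule.mem_span_singleton_self f)
  · rw [dotProduct_sub, dotProduct_smul, smul_eq_mul, dotProduct_comm g u₀, div_mul_cancel₀ _ h2, sub_self]

section main

variable {A : Matrix (Fin k) (Fin k) F} {x y v : Fin k → F}

theorem scalar_unique (hA : Good A) (hdet : A.det = 1) (hv : VecOK A x y v) (hk : 3 ≤ k) {f g : Fin k → F}
    {c d : F} (hf : BadScalar A v f c) (hg : BadScalar A v g d) (hfw : f ⬝ᵥ ((A - 1) *ᵥ v) = 0)
    (hgw : g ⬝ᵥ ((A - 1) *ᵥ v) = 0) : g ∈ Submodule.span F ({f} : Set (Fin k → F)) := by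
  by_contra hfg
  set w := (A - 1) *ᵥ v with hw
  have hAv : A *ᵥ v = v + w := by rw [hw, sub_mulVec, one_mulVec, add_sub_cancel]
  obtain ⟨a, ha⟩ := hf w hfw
  obtain ⟨b, hb⟩ := hg w hgw
  have hcd : c = d := by
    by_contra hne
    have hz : (d - c) • w = (a - b) • (A *ᵥ v) := by
      rw [sub_smul, sub_smul, ← ha, ← hb, sub_sub_sub_cancel_left]
    by_cases hab : a - b = 0
    · rw [hab, zero_smul, smul_eq_zero] at hz
      rcases hz with hz | hz
      · exact hne (sub_eq_zero.1 hz).symm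
      · exact hv.indep 0 (by rw [← hw, hz, zero_smul])
    · have hz' : (d - c - (a - b)) • w = (a - b) • v := by
        rw [sub_smul _ (a - b), hz, hAv, smul_add, add_sub_cancel_right]
      by_cases he : d - c - (a - b) = 0
      · rw [he, zero_smul] at hz'
        rcases smul_eq_zero.1 hz'.symm with h | h
        · exact hab h
        · exact hv.xv (by rw [h, dotProduct_zero])
      · refine hv.indep ((d - c - (a - b))⁻¹ * (a - b)) ?_
        rw [← hw, mul_smul, ← hz', smul_smul, inv_mul_cancel₀ he, one_smul]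
  subst hcd
  obtain ⟨u₀, hfu, -, hsplit⟩ := pair_split hfg
  have hR : ∀ z, ∃ e : F, (A - c • 1) *ᵥ z = e • (A *ᵥ v) := by
    intro z
    obtain ⟨u, s, hgu, rfl⟩ := hsplit z
    obtain ⟨e₁, he₁⟩ := hg u hgu
    obtain ⟨e₂, he₂⟩ := hf u₀ hfu
    refine ⟨e₁ + s * e₂, ?_⟩
    rw [mulVec_add, mulVec_smul, sub_mulVec, sub_mulVec, smul_mulVec, one_mulVec, smul_mulVec, one_mulVec,
      he₁, he₂, smul_smul, add_smul]
  refine hv.line hk c ⟨A *ᵥ v, hR⟩ ?_
  have hne : A - c • 1 ≠ 0 := fun h => hA.1 c (sub_eq_zero.1 h)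
  obtain ⟨z, hz⟩ : ∃ z, (A - c • 1) *ᵥ z ≠ 0 := by
    by_contra hall
    push Not at hall
    exact hne (ext_mulVec' fun z => by rw [hall z, zero_mulVec])
  obtain ⟨e, he⟩ := hR z
  have he0 : e ≠ 0 := by
    rintro rfl
    exact hz (by rw [he, zero_smul])
  refine ⟨e⁻¹ • z, ?_⟩
  rw [map_smul, mulVecLin_apply, he, smul_smul, inv_mul_cancel₀ he0, one_smul]

theorem finrank_rangeM (hA : Good A) : 2 ≤ finrank F (LinearMap.range (A - 1).mulVecLin) := not_R1_iff.1 hA.2

theorem rank_unique (hA : Good A) (hv : VecOK A x y v) (hk : 4 ≤ k)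
    (hr : 3 ≤ finrank F (LinearMap.range (A - 1).mulVecLin)) {f g : Fin k → F}
    (hf : BadRank A v f) (hg : BadRank A v g) : g ∈ Submodule.span F ({f} : Set (Fin k → F)) := by
  by_contra hfg
  obtain ⟨r, hr1⟩ := hf
  obtain ⟨r', hr2⟩ := hg
  obtain ⟨u₀, hfu, -, hsplit⟩ := pair_split hfg
  set P := Submodule.span F ({A *ᵥ v, r} : Set (Fin k → F))
  by_cases hr' : r' ∈ P
  · have hle : LinearMap.range (A - 1).mulVecLin ≤ P := by
      rintro z ⟨z, rfl⟩
      obtain ⟨u, s, hgu, rfl⟩ := hsplit z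
      obtain ⟨a, b, hab⟩ := hr2 u hgu
      obtain ⟨c, d, hcd⟩ := hr1 u₀ hfu
      rw [mulVecLin_apply, mulVec_add, mulVec_smul, hab, hcd]
      exact P.add_mem (P.add_mem (P.smul_mem _ (Submodule.subset_span (by simp))) (P.smul_mem _ hr'))
        (P.smul_mem _ (P.add_mem (P.smul_mem _ (Submodule.subset_span (by simp)))
          (P.smul_mem _ (Submodule.subset_span (by simp)))))
    have h1 := Submodule.finrank_mono hle
    have h2 : finrank F P ≤ 2 := finrank_span_two_le _ _
    omega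
  · -- the common kernel is mapped into the line of `A v`
    let φ : (Fin k → F) →ₗ[F] F × F :=
      { toFun := fun u => (f ⬝ᵥ u, g ⬝ᵥ u)
        map_add' := fun a b => by simp [dotProduct_add]
        map_smul' := fun c a => by simp [dotProduct_smul] }
    have hmap : ∀ u ∈ LinearMap.ker φ, (A - 1) *ᵥ u ∈ Submodule.span F ({A *ᵥ v} : Set (Fin k → F)) := by
      intro u hu
      have hu' := LinearMap.mem_ker.1 hu
      obtain ⟨a, b, hab⟩ := hr1 u (congrArg Prod.fst hu')
      obtain ⟨c, d, hcd⟩ := hr2 u (congrArg Prod.snd hu')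
      by_cases hd : d = 0
      · exact Submodule.mem_span_singleton.2 ⟨c, by rw [hcd, hd, zero_smul, add_zero]⟩
      · refine absurd ?_ hr'
        have he : r' = d⁻¹ • ((a - c) • (A *ᵥ v) + b • r) := by
          rw [sub_smul, sub_add_eq_add_sub, ← hab, hcd, add_sub_cancel_left, smul_smul, inv_mul_cancel₀ hd,
            one_smul]
        rw [he]
        exact P.smul_mem _ (P.add_mem (P.smul_mem _ (Submodule.subset_span (by simp)))
          (P.smul_mem _ (Submodule.subset_span (by simp))))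
    have hdim : k ≤ finrank F (LinearMap.ker φ) + 2 := by
      have h1 := φ.finrank_range_add_finrank_ker
      rw [finrank_pi, Fintype.card_fin] at h1
      have h2 : finrank F (LinearMap.range φ) ≤ 2 := by
        refine (Submodule.finrank_le _).trans ?_
        rw [Module.finrank_prod, Module.finrank_self]
      omega
    by_cases hI : LinearMap.range (A - 1).mulVecLin = ⊤
    · have hinj : Function.Injective (A - 1).mulVecLin :=
        LinearMap.injective_iff_surjective.2 (LinearMap.range_eq_top.1 hI)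
      have h1 : finrank F (LinearMap.ker φ) ≤ finrank F (Submodule.span F ({A *ᵥ v} : Set (Fin k → F))) := by
        refine LinearMap.finrank_le_finrank_of_injective
          (f := (A - 1).mulVecLin.restrict (p := LinearMap.ker φ) (q := Submodule.span F {A *ᵥ v}) hmap) ?_
        intro a b hab
        exact Subtype.ext (hinj (congrArg Subtype.val hab))
      have h2 := finrank_span_singleton_le (A *ᵥ v)
      omega
    · have hle : LinearMap.ker φ ≤ LinearMap.ker (A - 1).mulVecLin := by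
        intro u hu
        rw [LinearMap.mem_ker, mulVecLin_apply]
        obtain ⟨c, hc⟩ := Submodule.mem_span_singleton.1 (hmap u hu)
        by_contra h0
        have hc0 : c ≠ 0 := by
          rintro rfl
          exact h0 (by rw [← hc, zero_smul])
        refine hv.proper hI ?_
        refine ⟨c⁻¹ • u - v, ?_⟩
        rw [map_sub, map_smul, mulVecLin_apply, mulVecLin_apply, ← hc, smul_smul, inv_mul_cancel₀ hc0, one_smul,
          sub_mulVec, one_mulVec, sub_sub_cancel]
      have h1 := Submodule.finrank_mono hle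
      have h3 := (A - 1).mulVecLin.finrank_range_add_finrank_ker
      rw [finrank_pi, Fintype.card_fin] at h3
      omega

theorem rank_two_case (hA : Good A) (hv : VecOK A x y v) (hk : 4 ≤ k)
    (hr : finrank F (LinearMap.range (A - 1).mulVecLin) = 2) {f : Fin k → F} (hfv : f ⬝ᵥ v ≠ 0)
    (hfw : f ⬝ᵥ ((A - 1) *ᵥ v) = 0) :
    (∀ c : F, ¬BadScalar A v f c) ∧
      (BadRank A v f → f ∈ annSub (LinearMap.ker (A - 1).mulVecLin)) := by
  set I := LinearMap.range (A - 1).mulVecLin with hIdef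
  have hI : I ≠ ⊤ := by
    intro h
    rw [h, finrank_top, finrank_pi, Fintype.card_fin] at hr
    omega
  have hvI : v ∉ I := hv.proper hI
  have hwI : (A - 1) *ᵥ v ∈ I := ⟨v, rfl⟩
  have hAv : A *ᵥ v = v + (A - 1) *ᵥ v := by rw [sub_mulVec, one_mulVec, add_sub_cancel]
  have hfA : f ⬝ᵥ (A *ᵥ v) = f ⬝ᵥ v := by rw [hAv, dotProduct_add, hfw, add_zero]
  have hAvI : A *ᵥ v ∉ I := fun h => hvI (by rw [hAv] at h; exact (I.add_mem_iff_left hwI).1 h)
  refine ⟨fun c hb => ?_, fun hb => ?_⟩
  · have hc : c ≠ 1 := by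
      rintro rfl
      -- then `M` maps the kernel of `f` into the line of `A v`, which misses the image of `M`
      have hker : kerDot f ≤ LinearMap.ker (A - 1).mulVecLin := by
        intro u hu
        rw [LinearMap.mem_ker, mulVecLin_apply]
        obtain ⟨d, hd⟩ := hb u (by rw [dotProduct_comm]; exact hu)
        have hd' : (A - 1) *ᵥ u = d • (A *ᵥ v) := by rw [sub_mulVec, one_mulVec, ← hd, one_smul]
        by_cases hd0 : d = 0
        · rw [hd', hd0, zero_smul]
        · refine absurd ?_ hAvI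
          exact (I.smul_mem_iff hd0).1 (hd' ▸ ⟨u, rfl⟩)
      have h1 := Submodule.finrank_mono hker
      have h2 := finrank_kerDot f
      have h3 := (A - 1).mulVecLin.finrank_range_add_finrank_ker
      rw [finrank_pi, Fintype.card_fin, ← hIdef, hr] at h3
      omega
    let Q := I ⊔ Submodule.span F ({A *ᵥ v} : Set (Fin k → F))
    have hle : kerDot f ≤ Q := by
      intro u hu
      obtain ⟨d, hd⟩ := hb u (by rw [dotProduct_comm]; exact hu)
      have he : u = (c - 1)⁻¹ • ((A - 1) *ᵥ u - d • (A *ᵥ v)) := by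
        rw [← hd, sub_mulVec, one_mulVec, sub_sub_sub_cancel_left]
        nth_rewrite 3 [show u = (1 : F) • u from (one_smul F u).symm]
        rw [← sub_smul, smul_smul, inv_mul_cancel₀ (sub_ne_zero.2 hc), one_smul]
      rw [he]
      exact Q.smul_mem _ (Q.sub_mem (Submodule.mem_sup_left ⟨u, rfl⟩)
        (Q.smul_mem _ (Submodule.mem_sup_right (Submodule.mem_span_singleton_self _))))
    have hQ : finrank F Q ≤ 3 := by
      have h1 := Submodule.finrank_add_le_finrank_add_finrank I (Submodule.span F ({A *ᵥ v} : Set (Fin k → F)))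
      have h2 := finrank_span_singleton_le (A *ᵥ v)
      show finrank F (I ⊔ Submodule.span F ({A *ᵥ v} : Set (Fin k → F)) : Submodule F (Fin k → F)) ≤ 3
      omega
    have h1 := finrank_kerDot f
    have h2 := Submodule.finrank_mono hle
    have heq : kerDot f = Q := Submodule.eq_of_le_of_finrank_le hle (by omega)
    refine hfv ?_
    rw [← hfA, dotProduct_comm]
    exact mem_kerDot.1 (heq ▸ Submodule.mem_sup_right (Submodule.mem_span_singleton_self _))
  · intro u₀ hu₀
    by_contra hne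
    obtain ⟨r, hr'⟩ := hb
    have hMu : (A - 1) *ᵥ u₀ = 0 := LinearMap.mem_ker.1 hu₀
    set P := Submodule.span F ({A *ᵥ v, r} : Set (Fin k → F))
    have hle : I ⊔ Submodule.span F ({A *ᵥ v} : Set (Fin k → F)) ≤ P := by
      refine sup_le ?_ ((Submodule.span_singleton_le_iff_mem _ _).2 (Submodule.subset_span (by simp)))
      rintro z ⟨z, rfl⟩
      obtain ⟨a, b, hab⟩ := hr' (z - ((f ⬝ᵥ z) / (f ⬝ᵥ u₀)) • u₀) (by
        rw [dotProduct_sub, dotProduct_smul, smul_eq_mul, div_mul_cancel₀ _ hne, sub_self])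
      rw [mulVec_sub, mulVec_smul, hMu, smul_zero, sub_zero] at hab
      rw [mulVecLin_apply, hab]
      exact P.add_mem (P.smul_mem _ (Submodule.subset_span (by simp)))
        (P.smul_mem _ (Submodule.subset_span (by simp)))
    have hlt : I < I ⊔ Submodule.span F ({A *ᵥ v} : Set (Fin k → F)) :=
      lt_of_le_of_ne le_sup_left fun h => hAvI (h ▸ Submodule.mem_sup_right (Submodule.mem_span_singleton_self _))
    have h1 := Submodule.finrank_lt_finrank_of_lt hlt
    have h2 := Submodule.finrank_mono hle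
    have h3 : finrank F P ≤ 2 := finrank_span_two_le _ _
    omega

end main

end Cfsg.Agent.Lib.Sourour
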