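import Cfsg.Agent.Lib.Sourour.Avoid

/-!
The choice of the first basis vector in the triangular factorisation.
-/

set_option autoImplicit false

namespace Cfsg.Agent.Lib.Sourour

open Matrix Module

variable {F : Type*} [Field F] {k : ℕ}

/-- The image of `N` lies on a line. -/
def R1 (N : Matrix (Fin k) (Fin k) F) : Prop := ∃ r : Fin k → F, ∀ u, ∃ c : F, N *ᵥ u = c • r

/-- Neither scalar nor the identity plus a map of rank one. -/
def Good (A : Matrix (Fin k) (Fin k) F) : Prop := (∀ c : F, A ≠ c • 1) ∧ ¬R1 (A - 1)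

theorem ext_mulVec' {A B : Matrix (Fin k) (Fin k) F} (h : ∀ u, A *ᵥ u = B *ᵥ u) : A = B :=
  Matrix.toLin'.injective (LinearMap.ext fun u => by simpa [Matrix.toLin'_apply] using h u)

theorem exists_dot {S : Submodule F (Fin k → F)} {z : Fin k → F} (hz : z ∉ S) :
    ∃ f : Fin k → F, (∀ u ∈ S, f ⬝ᵥ u = 0) ∧ f ⬝ᵥ z ≠ 0 := by
  obtain ⟨φ, hφz, hφS⟩ := Submodule.exists_dual_map_eq_bot_of_notMem hz inferInstance
  have key : ∀ u : Fin k → F, (fun i => φ (Pi.single i 1)) ⬝ᵥ u = φ u := by
    intro u
    conv_rhs => rw [pi_eq_sum_univ' u, map_sum]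
    simp [dotProduct, mul_comm]
  refine ⟨fun i => φ (Pi.single i 1), fun u hu => ?_, by rw [key]; exact hφz⟩
  rw [key]
  have hm := Submodule.mem_map_of_mem (f := φ) hu
  rw [hφS] at hm
  exact (Submodule.mem_bot F).1 hm

theorem not_R1_iff {N : Matrix (Fin k) (Fin k) F} :
    ¬R1 N ↔ 2 ≤ finrank F (LinearMap.range N.mulVecLin) := by
  constructor
  · intro h
    by_contra hlt
    push Not at hlt
    have h1 : finrank F (LinearMap.range N.mulVecLin) ≤ 1 := by omega
    obtain ⟨r, hr⟩ := finrank_le_one_iff.1 h1
    refine h ⟨(r : Fin k → F), fun u => ?_⟩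
    obtain ⟨c, hc⟩ := hr ⟨N *ᵥ u, LinearMap.mem_range.2 ⟨u, rfl⟩⟩
    exact ⟨c, by simpa using (congrArg Subtype.val hc).symm⟩
  · rintro h ⟨r, hr⟩
    have hle : LinearMap.range N.mulVecLin ≤ Submodule.span F {r} := by
      rintro z ⟨u, rfl⟩
      obtain ⟨c, hc⟩ := hr u
      exact Submodule.mem_span_singleton.2 ⟨c, hc.symm⟩
    have h1 := Submodule.finrank_mono hle
    have h2 : finrank F (Submodule.span F ({r} : Set (Fin k → F))) ≤ 1 := by
      refine (finrank_span_le_card ({r} : Set (Fin k → F))).trans ?_
      simp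
    omega

/-- The conditions on the first basis vector. -/
structure VecOK (A : Matrix (Fin k) (Fin k) F) (x y v : Fin k → F) : Prop where
  xv : x ⬝ᵥ v ≠ 0
  my : ∀ c : F, (A - 1) *ᵥ v ≠ c • y
  indep : ∀ c : F, (A - 1) *ᵥ v ≠ c • v
  proper : LinearMap.range (A - 1).mulVecLin ≠ ⊤ → v ∉ LinearMap.range (A - 1).mulVecLin
  line : 3 ≤ k → ∀ c : F, R1 (A - c • 1) → A *ᵥ v ∉ LinearMap.range (A - c • 1).mulVecLin

theorem exists_vec (h4 : Four F) (hk : 2 ≤ k) {A : Matrix (Fin k) (Fin k) F} (hA : Good A) (hdet : A.det = 1)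
    {x y : Fin k → F} (hx : x ≠ 0) (hy : y ≠ 0) : ∃ v, VecOK A x y v := by
  classical
  have hk0 : 0 < k := by omega
  haveI : Nonempty (Fin k) := ⟨⟨0, hk0⟩⟩
  set M := A - 1 with hM
  have hAv : ∀ v, A *ᵥ v = v + M *ᵥ v := fun v => by rw [hM, sub_mulVec, one_mulVec, add_sub_cancel]
  have hinjA : Function.Injective A.mulVec := Matrix.mulVec_injective_iff_isUnit.2
    ((Matrix.isUnit_iff_isUnit_det A).2 (by rw [hdet]; exact isUnit_one))
  let X : Submodule F (Fin k → F) := LinearMap.ker ((dotProductBilin F F) x)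
  have hX : ¬(⊤ : Submodule F (Fin k → F)) ≤ X := by
    intro h
    refine hx (funext fun i => ?_)
    have := LinearMap.mem_ker.1 (h (Submodule.mem_top : Pi.single i 1 ∈ (⊤ : Submodule F (Fin k → F))))
    simpa using this
  have hr2 : 2 ≤ finrank F (LinearMap.range M.mulVecLin) := not_R1_iff.1 hA.2
  let S : Submodule F (Fin k → F) := (Submodule.span F {y}).comap M.mulVecLin
  have hS : ¬(⊤ : Submodule F (Fin k → F)) ≤ S := by
    intro h
    refine hA.2 ⟨y, fun u => ?_⟩
    obtain ⟨c, hc⟩ := Submodule.mem_span_singleton.1 (h (Submodule.mem_top : u ∈ (⊤ : Submodule F (Fin k → F))))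
    exact ⟨c, hc.symm⟩
  -- the only line
  obtain ⟨L, hLdim, hL⟩ : ∃ L : Submodule F (Fin k → F), finrank F L ≤ 1 ∧
      (3 ≤ k → ∀ c : F, R1 (A - c • 1) → ∀ v, A *ᵥ v ∈ LinearMap.range (A - c • 1).mulVecLin → v ∈ L) := by
    by_cases hex : 3 ≤ k ∧ ∃ c : F, R1 (A - c • 1)
    · obtain ⟨hk3, c, r, hr⟩ := hex
      refine ⟨(Submodule.span F {r}).comap A.mulVecLin, ?_, ?_⟩
      · have h1 : finrank F ((Submodule.span F {r}).comap A.mulVecLin) ≤
            finrank F (Submodule.span F ({r} : Set (Fin k → F))) := by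
          refine LinearMap.finrank_le_finrank_of_injective
            (f := A.mulVecLin.restrict (p := (Submodule.span F {r}).comap A.mulVecLin)
              (q := Submodule.span F {r}) fun u hu => hu) ?_
          intro a b hab
          exact Subtype.ext (hinjA (congrArg Subtype.val hab))
        refine h1.trans ((finrank_span_le_card ({r} : Set (Fin k → F))).trans ?_)
        simp
      · intro _ d ⟨r', hr'⟩ v hv
        have hdc : d = c := by
          by_contra hne
          refine absurd ?_ (show ¬ k ≤ 2 by omega)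
          have hle : (⊤ : Submodule F (Fin k → F)) ≤ Submodule.span F {r, r'} := by
            intro u _
            obtain ⟨a, ha⟩ := hr u
            obtain ⟨b, hb⟩ := hr' u
            refine Submodule.mem_span_pair.2 ⟨(d - c)⁻¹ * a, -((d - c)⁻¹ * b), ?_⟩
            rw [neg_smul, mul_smul, mul_smul, ← ha, ← hb, sub_mulVec, sub_mulVec, smul_mulVec, smul_mulVec,
              one_mulVec, ← sub_eq_add_neg, ← smul_sub, sub_sub_sub_cancel_left, ← sub_smul,
              smul_smul, inv_mul_cancel₀ (sub_ne_zero.2 hne), one_smul]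
          have h1 := Submodule.finrank_mono hle
          rw [finrank_top, finrank_pi, Fintype.card_fin] at h1
          refine h1.trans ((finrank_span_le_card ({r, r'} : Set (Fin k → F))).trans ?_)
          simp only [Set.toFinset_insert, Set.toFinset_singleton]
          exact Finset.card_le_two
        subst hdc
        obtain ⟨u, hu⟩ := hv
        obtain ⟨a, ha⟩ := hr u
        refine Submodule.mem_comap.2 (Submodule.mem_span_singleton.2 ⟨a, ?_⟩)
        rw [← ha]
        exact hu
    · exact ⟨⊥, by simp, fun hk3 c hc => absurd ⟨hk3, c, hc⟩ hex⟩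
  have hLtop : ¬(⊤ : Submodule F (Fin k → F)) ≤ L := by
    intro h
    have := Submodule.finrank_mono h
    rw [finrank_top, finrank_pi, Fintype.card_fin] at this
    omega
  by_cases hI : LinearMap.range M.mulVecLin = ⊤
  · -- M invertible
    have hinj : Function.Injective M.mulVecLin := LinearMap.injective_iff_surjective.2 (LinearMap.range_eq_top.1 hI)
    obtain ⟨E₁, E₂, hE₁, hE₂, hE⟩ := eigen_two (T := A.mulVecLin) (fun c hc => hA.1 c (ext_mulVec' fun u => by
      have := LinearMap.congr_fun hc u
      simpa [smul_mulVec] using this))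
    by_cases hk3 : 3 ≤ k
    · have hZ : ¬(⊤ : Submodule F (Fin k → F)) ≤ S ⊔ L := by
        intro h
        have h1 := Submodule.finrank_mono h
        rw [finrank_top, finrank_pi, Fintype.card_fin] at h1
        have h2 := Submodule.finrank_add_le_finrank_add_finrank S L
        have h3 : finrank F S ≤ 1 := by
          have h4 : finrank F S ≤ finrank F (Submodule.span F ({y} : Set (Fin k → F))) := by
            refine LinearMap.finrank_le_finrank_of_injective
              (f := M.mulVecLin.restrict (p := S) (q := Submodule.span F {y}) fun u hu => hu) ?_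
            intro a b hab
            exact Subtype.ext (hinj (congrArg Subtype.val hab))
          refine h4.trans ((finrank_span_le_card ({y} : Set (Fin k → F))).trans ?_)
          simp
        omega
      obtain ⟨v, -, hvX, hv1, hv2, hvZ⟩ := exists_notMem_four h4 hX
        (fun h => hE₁ (top_le_iff.1 h)) (fun h => hE₂ (top_le_iff.1 h)) hZ
      refine ⟨v, ?_⟩
      exact
        { xv := fun h => hvX (LinearMap.mem_ker.2 h)
          my := fun c hc => hvZ (Submodule.mem_sup_left (Submodule.mem_comap.2
            (Submodule.mem_span_singleton.2 ⟨c, hc.symm⟩)))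
          indep := fun c hc => by
            rcases hE (1 + c) v (by rw [mulVecLin_apply, hAv, hc, add_smul, one_smul]) with h | h
            · exact hv1 h
            · exact hv2 h
          proper := fun h => absurd hI h
          line := fun h3 c hc hmem => hvZ (Submodule.mem_sup_right (hL h3 c hc v hmem)) }
    · obtain ⟨v, -, hvX, hv1, hv2, hvS⟩ := exists_notMem_four h4 hX
        (fun h => hE₁ (top_le_iff.1 h)) (fun h => hE₂ (top_le_iff.1 h)) hS
      refine ⟨v, ?_⟩
      exact
        { xv := fun h => hvX (LinearMap.mem_ker.2 h)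
          my := fun c hc => hvS (Submodule.mem_comap.2 (Submodule.mem_span_singleton.2 ⟨c, hc.symm⟩))
          indep := fun c hc => by
            rcases hE (1 + c) v (by rw [mulVecLin_apply, hAv, hc, add_smul, one_smul]) with h | h
            · exact hv1 h
            · exact hv2 h
          proper := fun h => absurd hI h
          line := fun h3 => absurd h3 hk3 }
  · obtain ⟨v, -, hvX, hvS, hvI, hvL⟩ := exists_notMem_four h4 hX hS (fun h => hI (top_le_iff.1 h)) hLtop
    refine ⟨v, ?_⟩
    exact
      { xv := fun h => hvX (LinearMap.mem_ker.2 h)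
        my := fun c hc => hvS (Submodule.mem_comap.2 (Submodule.mem_span_singleton.2 ⟨c, hc.symm⟩))
        indep := fun c hc => by
          by_cases hc0 : c = 0
          · refine hvS (Submodule.mem_comap.2 ?_)
            rw [mulVecLin_apply, hc, hc0, zero_smul]
            exact Submodule.zero_mem _
          · refine hvI ⟨c⁻¹ • v, ?_⟩
            rw [map_smul, mulVecLin_apply, hc, smul_smul, inv_mul_cancel₀ hc0, one_smul]
        proper := fun _ => hvI
        line := fun h3 c hc hmem => hvL (hL h3 c hc v hmem) }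

end Cfsg.Agent.Lib.Sourour
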