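import Cfsg.Agent.Lib.Sourour.Blk
import Cfsg.Agent.Lib.Sourour.Vec

/-!
A non-trivial identity plus rank one map of determinant one is similar to the corner transvection.
-/

set_option autoImplicit false

namespace Cfsg.Agent.Lib.Sourour

open Matrix

variable {F : Type*} [Field F]

theorem det_one_add_vecMulVec' {k : ℕ} (r g : Fin k → F) : (1 + vecMulVec r g).det = 1 + g ⬝ᵥ r := by
  rw [← Matrix.det_one_add_replicateCol_mul_replicateRow (ι := Unit) r g]
  congr 2
  ext i j
  simp [Matrix.mul_apply, vecMulVec]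

theorem transvection_form {n : ℕ} {A : Matrix (Fin (n + 2)) (Fin (n + 2)) F} (hdet : A.det = 1)
    (hne : A ≠ 1) (hR : R1 (A - 1)) :
    ∃ P P' : Matrix (Fin (n + 2)) (Fin (n + 2)) F, P' * P = 1 ∧
      P' * A * P = 1 + Matrix.single 0 (Fin.last (n + 1)) 1 := by
  classical
  obtain ⟨r, hr⟩ := hR
  choose c hc using hr
  obtain ⟨g, hA⟩ : ∃ g, A = 1 + vecMulVec r g := by
    refine ⟨fun i => c (Pi.single i 1), Matrix.ext fun l i => ?_⟩
    have h := congrFun (hc (Pi.single i 1)) l
    rw [mulVec_single_one] at h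
    simp [vecMulVec] at h ⊢
    linear_combination h
  have hgr : g ⬝ᵥ r = 0 := by
    rw [hA, det_one_add_vecMulVec'] at hdet
    simpa using hdet
  have hr0 : r ≠ 0 := by
    rintro rfl
    exact hne (by rw [hA]; simp [zero_vecMulVec])
  obtain ⟨j, hj⟩ : ∃ j, g j ≠ 0 := by
    by_contra h
    push Not at h
    refine hne ?_
    rw [hA, show g = 0 from funext h]
    simp [vecMulVec_zero]
  set v : Fin (n + 2) → F := Pi.single j (g j)⁻¹
  have hgv : g ⬝ᵥ v = 1 := by simp [v, dotProduct_single, hj]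
  set P₀ := adapt j v g with hP₀
  set P₀' := adaptInv j v g with hP₀'
  have hP₀P : P₀' * P₀ = 1 := adapt_spec hj hgv
  have hPP₀ : P₀ * P₀' = 1 := adapt_mul_inv hj hgv
  set a : Fin (n + 1) → F := fun s => (P₀' *ᵥ r) s.succ with hadef
  have ha : P₀' *ᵥ r = Fin.cons 0 a := by
    have h0 : (P₀' *ᵥ r) 0 = 0 := by
      rw [← hgr]
      exact congrArg (· ⬝ᵥ r) (funext (adaptInv_row j v g))
    conv_lhs => rw [← cons_tail_eq (P₀' *ᵥ r), h0]
  obtain ⟨s, hs⟩ : ∃ s, a s ≠ 0 := by
    by_contra h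
    push Not at h
    refine hr0 ?_
    have h1 : P₀' *ᵥ r = 0 := by
      rw [ha, show a = 0 from funext h]
      funext i
      induction i using Fin.cases <;> simp
    have := congrArg (P₀ *ᵥ ·) h1
    simpa [mulVec_mulVec, hPP₀] using this
  set f : Fin (n + 1) → F := Pi.single s (a s)⁻¹
  have hfs : f s ≠ 0 := by simp [f, hs]
  have hfa : f ⬝ᵥ a = 1 := by simp [f, single_dotProduct, hs]
  set Q := adapt s a f with hQ
  set Q' := adaptInv s a f with hQ'
  have hQQ : Q' * Q = 1 := adapt_spec hfs hfa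
  set P₁ := P₀ * blk 1 0 0 Q
  set P₁' := blk 1 0 0 Q' * P₀'
  have hP₁ : P₁' * P₁ = 1 := by
    rw [show P₁' * P₁ = blk 1 0 0 Q' * (P₀' * P₀) * blk 1 0 0 Q by simp only [P₁, P₁', mul_assoc], hP₀P, mul_one,
      blk_mul]
    simp [hQQ, blk_one]
  have h1 : P₁' *ᵥ r = Pi.single 1 1 := by
    have hQa : Q' *ᵥ a = Pi.single 0 1 := by
      have : a = Q *ᵥ Pi.single 0 1 := by
        funext i
        rw [mulVec_single_one]
        exact (adapt_col s a f i).symm
      conv_lhs => rw [this, mulVec_mulVec, hQQ, one_mulVec]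
    rw [show P₁' = blk 1 0 0 Q' * P₀' from rfl, ← mulVec_mulVec, ha, blk_mulVec, hQa]
    funext i
    induction i using Fin.cases with
    | zero => simp
    | succ i =>
      rw [Fin.cons_succ, show (1 : Fin (n + 2)) = Fin.succ (0 : Fin (n + 1)) from Fin.succ_zero_eq_one.symm]
      simp only [Pi.single_apply, Fin.succ_inj, one_mul, zero_smul, zero_add]
  have h2 : g ᵥ* P₁ = Pi.single 0 1 := by
    have hg : g ᵥ* P₀ = Fin.cons 1 0 := by
      have h : g = (Fin.cons 1 0 : Fin (n + 2) → F) ᵥ* P₀' := by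
        funext i
        simp [Matrix.vecMul, dotProduct, Fin.sum_univ_succ, hP₀', adaptInv_row]
      conv_lhs => rw [h, vecMul_vecMul, hP₀P, vecMul_one]
    rw [show P₁ = P₀ * blk 1 0 0 Q from rfl, ← vecMul_vecMul, hg, vecMul_blk]
    funext i
    induction i using Fin.cases with
    | zero => simp
    | succ i => simp
  let σ : Equiv.Perm (Fin (n + 2)) :=
    if n = 0 then Equiv.swap 0 1 else Equiv.swap 0 (Fin.last (n + 1)) * Equiv.swap 0 1
  have hσ0 : σ 0 = 1 := by
    by_cases hn : n = 0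
    · simp [σ, hn]
    · have h' : (1 : Fin (n + 2)) ≠ Fin.last (n + 1) := by
        rw [Ne, Fin.ext_iff, Fin.val_one, Fin.val_last]
        omega
      simp [σ, hn, Equiv.swap_apply_of_ne_of_ne (by simp : (1 : Fin (n + 2)) ≠ 0) h']
  have hσl : σ (Fin.last (n + 1)) = 0 := by
    by_cases hn : n = 0
    · subst hn
      simp [σ]
    · have h' : Fin.last (n + 1) ≠ (1 : Fin (n + 2)) := by
        rw [Ne, Fin.ext_iff, Fin.val_one, Fin.val_last]
        omega
      have h0 : Fin.last (n + 1) ≠ (0 : Fin (n + 2)) := by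
        rw [Ne, Fin.ext_iff, Fin.val_zero, Fin.val_last]
        omega
      simp [σ, hn, Equiv.swap_apply_of_ne_of_ne h0 h']
  refine ⟨P₁.submatrix id σ, P₁'.submatrix σ id, ?_, ?_⟩
  · rw [← Matrix.submatrix_mul P₁' P₁ σ id σ Function.bijective_id, hP₁, Matrix.submatrix_one_equiv]
  · have hc1 : P₁'.submatrix σ id *ᵥ r = Pi.single 0 1 := by
      funext i
      have : (P₁'.submatrix σ id *ᵥ r) i = (P₁' *ᵥ r) (σ i) := rfl
      rw [this, h1, ← hσ0]
      simp [Pi.single_apply]
    have hc2 : g ᵥ* P₁.submatrix id σ = Pi.single (Fin.last (n + 1)) 1 := by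
      funext i
      have : (g ᵥ* P₁.submatrix id σ) i = (g ᵥ* P₁) (σ i) := rfl
      rw [this, h2, ← hσl]
      simp [Pi.single_apply]
    rw [hA, mul_add, add_mul, mul_one, mul_vecMulVec, vecMulVec_mul, hc1, hc2,
      ← Matrix.submatrix_mul P₁' P₁ σ id σ Function.bijective_id, hP₁, Matrix.submatrix_one_equiv]
    congr 1
    ext a b
    simp only [vecMulVec, Matrix.of_apply, Matrix.single, Pi.single_apply]
    by_cases ha' : a = 0 <;> by_cases hb' : b = Fin.last (n + 1) <;> simp [ha', hb', Ne.symm]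

end Cfsg.Agent.Lib.Sourour
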