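import Cfsg.Agent.Lib.Sourour.NormalForm
import Cfsg.Agent.Lib.Sourour.Transvection

/-!
A non-scalar matrix of determinant one is similar to a product of two triangular matrices with prescribed
reciprocal diagonals.
-/

set_option autoImplicit false

namespace Cfsg.Agent.Lib.Sourour

open Matrix

variable {F : Type*} [Field F]

/-- Similar to `N`. -/
def Sim {k : ℕ} (M N : Matrix (Fin k) (Fin k) F) : Prop :=
  ∃ K : Matrix (Fin k) (Fin k) F, IsUnit K.det ∧ M * K = K * N

/-- Splitting `A` as `X * Y` up to similarity, with `X` and an inverse of `Y` similar to the normal form. -/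
def Split {k : ℕ} (A : Matrix (Fin k) (Fin k) F) (β : Fin k → F) (m : ℕ) : Prop :=
  ∃ P P' X Y Y' : Matrix (Fin k) (Fin k) F, P' * P = 1 ∧ P' * A * P = X * Y ∧ Y * Y' = 1 ∧
    X.det = ∏ i, β i ∧ Sim X (nf β m) ∧ Sim Y' (nf β m)

theorem Runs.inv {k : ℕ} {β : Fin k → F} {m : ℕ} {c : F} (h : Runs β m c) :
    Runs (fun i => (β i)⁻¹) m c⁻¹ :=
  ⟨fun i hi j hj he => h.sep i hi j hj (inv_injective he), fun i hi => by rw [h.tail i hi]⟩

theorem det_lo {k : ℕ} {β : Fin k → F} {L : Matrix (Fin k) (Fin k) F} (hL : IsLo β L) :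
    L.det = ∏ i, β i := by
  rw [Matrix.det_of_isLowerTriangular]
  · exact Finset.prod_congr rfl fun i _ => hL.diag i
  · intro a b h
    exact hL.zero a b h

theorem split_good (h4 : Four F) {n : ℕ} {A : Matrix (Fin (n + 1)) (Fin (n + 1)) F} (hdet : A.det = 1)
    (hA : Good A) {β : Fin (n + 1) → F} (hβ : ∀ i, β i ≠ 0) {m : ℕ} {c : F} (hr : Runs β m c) :
    Split A β m := by
  have h0 : (Pi.single 0 1 : Fin (n + 1) → F) ≠ 0 := by simp
  obtain ⟨P, P', L, U, hPP, hLU, hL, hU, -, -⟩ := lu h4 n A hdet (fun _ => hA) _ _ h0 h0 β hβ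
  obtain ⟨Y, hUY, -, hYz, hYd, hYn⟩ := up_inv (γ := fun i => (β i)⁻¹) (fun i => inv_ne_zero (hβ i)) hU.zero hU.diag
  refine ⟨P, P', L, U, Y, hPP, hLU, hUY, det_lo hL, lo_similar hr hL.zero hL.diag fun i j h _ => hL.next i j h, ?_⟩
  refine up_similar hr hYz (fun i => by rw [hYd, inv_inv]) fun i j h _ => ?_
  rw [hYn i j h, neg_ne_zero]
  exact mul_ne_zero (mul_ne_zero (inv_ne_zero (inv_ne_zero (hβ i))) (hU.next i j h))
    (inv_ne_zero (inv_ne_zero (hβ j)))

/-- The bidiagonal matrix with diagonal `β`. -/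
def bidiag {k : ℕ} (β : Fin k → F) : Matrix (Fin k) (Fin k) F :=
  Matrix.of fun i j => if i = j then β i else if i.val + 1 = j.val then 1 else 0

theorem split_transvection {n : ℕ} {A : Matrix (Fin (n + 2)) (Fin (n + 2)) F} (hdet : A.det = 1)
    (hne : A ≠ 1) (hR : R1 (A - 1)) {β : Fin (n + 2) → F} (hβ : ∀ i, β i ≠ 0) {m : ℕ} {c : F}
    (hr : Runs β m c) (hm : 2 ≤ m ∨ 1 ≤ n) : Split A β m := by
  obtain ⟨P, P', hPP, ht⟩ := transvection_form hdet hne hR
  set T := 1 + Matrix.single (0 : Fin (n + 2)) (Fin.last (n + 1)) (1 : F) with hT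
  have hz : ∀ i j : Fin (n + 2), j < i → bidiag β i j = 0 := by
    intro i j h
    have h' : j.val < i.val := h
    simp [bidiag, h.ne', show ¬(i.val + 1 = j.val) by omega]
  have hd : ∀ i, bidiag β i i = β i := fun i => by simp [bidiag]
  have hn : ∀ i j : Fin (n + 2), i.val + 1 = j.val → bidiag β i j = 1 := by
    intro i j h
    have hne' : i ≠ j := fun he => by rw [he] at h; omega
    simp [bidiag, hne', h]
  obtain ⟨Y, hBY, -, hYz, hYd, hYn⟩ := up_inv hβ hz hd
  have hTu : ∀ i j : Fin (n + 2), j < i → T i j = 0 := by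
    intro i j h
    have h1 : (0 : Fin (n + 2)) ≠ i := fun he => absurd h (by rw [← he]; exact Fin.not_lt_zero _)
    simp [hT, Matrix.one_apply_ne h.ne', Matrix.single, h1]
  have hTd : ∀ i, T i i = 1 := by
    intro i
    have h1 : ¬(0 = i ∧ Fin.last (n + 1) = i) := fun h => by
      have := congrArg Fin.val (h.1.trans h.2.symm)
      simp at this
    simp [hT, Matrix.single, h1]
  -- `Y * T` and its inverse
  set C := Y * T with hC
  have hCz : ∀ i j : Fin (n + 2), j < i → C i j = 0 := fun i j h =>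
    Matrix.BlockTriangular.mul (b := id) (fun a b hab => hYz a b hab) (fun a b hab => hTu a b hab) h
  have hCd : ∀ i, C i i = (β i)⁻¹ := by
    intro i
    rw [hC, Matrix.mul_apply, Finset.sum_eq_single i, hYd, hTd, mul_one]
    · intro l _ hl
      rcases lt_or_gt_of_ne hl with h | h
      · rw [hYz i l h, zero_mul]
      · rw [hTu l i h, mul_zero]
    · simp
  obtain ⟨C', hCC, -, hC'z, hC'd, hC'n⟩ := up_inv (γ := fun i => (β i)⁻¹) (fun i => inv_ne_zero (hβ i)) hCz hCd
  refine ⟨P, P', bidiag β, C, C', hPP, ?_, hCC, ?_, up_similar hr hz hd fun i j h _ => ?_,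
    up_similar hr hC'z (fun i => by rw [hC'd, inv_inv]) fun i j h hmi => ?_⟩
  · rw [ht, hC, ← mul_assoc, hBY, one_mul]
  · rw [Matrix.det_of_isUpperTriangular (fun a b h => hz a b h)]
    exact Finset.prod_congr rfl fun i _ => hd i
  · rw [hn i j h]
    exact one_ne_zero
  · -- the superdiagonal of `Y * T`
    have hij : i ≠ j := fun he => by rw [he] at h; omega
    have hTij : T i j = 0 := by
      have h1 : ¬(0 = i ∧ Fin.last (n + 1) = j) := fun he => by
        rw [← he.1, ← he.2, Fin.val_zero, Fin.val_last] at h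
        rw [← he.1, Fin.val_zero] at hmi
        omega
      simp [hT, Matrix.one_apply_ne hij, Matrix.single, h1]
    have hCij : C i j = Y i j := by
      rw [hC, Matrix.mul_apply, Finset.sum_eq_add i j hij, hTij, hTd, mul_zero, zero_add, mul_one]
      · intro l _ hl
        by_cases h' : l < i
        · rw [hYz i l h', zero_mul]
        · have h1 : i.val ≤ l.val := Fin.le_def.1 (not_lt.1 h')
          have h2 : l.val ≠ i.val := fun he => hl.1 (Fin.ext he)
          have h3 : l.val ≠ j.val := fun he => hl.2 (Fin.ext he)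
          rw [hTu l j (Fin.lt_def.2 (by omega)), mul_zero]
      · simp
      · simp
    rw [hC'n i j h, hCij, hYn i j h, hn i j h, neg_ne_zero]
    simp [hβ]

theorem split_of_not_scalar (h4 : Four F) {n : ℕ} {A : Matrix (Fin (n + 2)) (Fin (n + 2)) F} (hdet : A.det = 1)
    (hA : ∀ c : F, A ≠ c • 1) {β : Fin (n + 2) → F} (hβ : ∀ i, β i ≠ 0) {m : ℕ} {c : F} (hr : Runs β m c)
    (hm : 2 ≤ m ∨ 1 ≤ n) : Split A β m := by
  by_cases hR : R1 (A - 1)
  · exact split_transvection hdet (fun h => hA 1 (by rw [h, one_smul])) hR hβ hr hm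
  · exact split_good h4 hdet ⟨hA, hR⟩ hβ hr

end Cfsg.Agent.Lib.Sourour
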