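import Cfsg.Agent.Lib.Sourour.Product

/-!
Commutators in special linear groups: bookkeeping, non-scalar matrices over fields with at least four elements, and
scalar matrices over finite fields.
-/

set_option autoImplicit false

namespace Cfsg.Agent.Lib.Sourour

open Matrix
open scoped Kronecker

variable {F : Type*} [Field F]

/-- `A` is a commutator `a b a⁻¹ b⁻¹` of two matrices of determinant one. -/
def IsComm {ι : Type*} [Fintype ι] [DecidableEq ι] (A : Matrix ι ι F) : Prop :=
  ∃ a b : Matrix ι ι F, a.det = 1 ∧ b.det = 1 ∧ A * (b * a) = a * b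

theorem IsComm.conj {ι : Type*} [Fintype ι] [DecidableEq ι] {A A' P P' : Matrix ι ι F} (h : IsComm A)
    (hPP : P' * P = 1) (hA : A' = P * A * P') : IsComm A' := by
  obtain ⟨a, b, ha, hb, hab⟩ := h
  have hd : P.det * P'.det = 1 := by rw [mul_comm, ← det_mul, hPP, det_one]
  have h2 : ∀ M : Matrix ι ι F, P' * (P * M) = M := fun M => by rw [← mul_assoc, hPP, one_mul]
  refine ⟨P * a * P', P * b * P', ?_, ?_, ?_⟩
  · rw [det_mul, det_mul, ha, mul_one, hd]
  · rw [det_mul, det_mul, hb, mul_one, hd]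
  · rw [hA]
    simp only [mul_assoc, h2]
    rw [← mul_assoc b a, ← mul_assoc A (b * a), hab, mul_assoc a]

theorem IsComm.reindex {ι κ : Type*} [Fintype ι] [DecidableEq ι] [Fintype κ] [DecidableEq κ] {A : Matrix ι ι F}
    (h : IsComm A) (e : ι ≃ κ) : IsComm (Matrix.reindex e e A) := by
  obtain ⟨a, b, ha, hb, hab⟩ := h
  refine ⟨Matrix.reindex e e a, Matrix.reindex e e b, ?_, ?_, ?_⟩
  · rw [det_reindex_self, ha]
  · rw [det_reindex_self, hb]
  · simp only [reindex_apply, submatrix_mul_equiv, hab]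

theorem IsComm.blockDiagonal {ι o : Type*} [Fintype ι] [DecidableEq ι] [Fintype o] [DecidableEq o]
    {A : Matrix ι ι F} (h : IsComm A) : IsComm (Matrix.blockDiagonal fun _ : o => A) := by
  obtain ⟨a, b, ha, hb, hab⟩ := h
  refine ⟨Matrix.blockDiagonal fun _ => a, Matrix.blockDiagonal fun _ => b, ?_, ?_, ?_⟩
  · rw [det_blockDiagonal]; simp [ha]
  · rw [det_blockDiagonal]; simp [hb]
  · simp only [← blockDiagonal_mul, hab]

/-- The form used by the statement. -/
theorem exists_sl_commutator {ι : Type*} [Fintype ι] [DecidableEq ι] (g : Matrix.SpecialLinearGroup ι F)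
    (h : IsComm (g : Matrix ι ι F)) : ∃ a b : Matrix.SpecialLinearGroup ι F, g = a * b * a⁻¹ * b⁻¹ := by
  obtain ⟨a, b, ha, hb, hab⟩ := h
  refine ⟨⟨a, ha⟩, ⟨b, hb⟩, eq_mul_inv_of_mul_eq (eq_mul_inv_of_mul_eq (Subtype.ext ?_))⟩
  show (g : Matrix ι ι F) * b * a = a * b
  rw [mul_assoc, hab]

theorem comm_diag_one {k : ℕ} (β : Fin k → F) {m : ℕ} (hm : 1 ≤ m) (hk : 0 < k) (t : F) :
    Matrix.diagonal (fun i : Fin k => if i = ⟨0, hk⟩ then t else 1) * nf β m =
      nf β m * Matrix.diagonal (fun i : Fin k => if i = ⟨0, hk⟩ then t else 1) := by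
  ext i j
  rw [diagonal_mul, mul_diagonal]
  by_cases hij : i = j
  · subst hij; exact mul_comm _ _
  · by_cases hc : j.val + 1 = i.val ∧ m ≤ j.val
    · have hi : i ≠ ⟨0, hk⟩ := fun h => by have := congrArg Fin.val h; simp at this; omega
      have hj : j ≠ ⟨0, hk⟩ := fun h => by have := congrArg Fin.val h; simp at this; omega
      simp [hi, hj]
    · simp [nf, hij, hc]

theorem isComm_of_split {k : ℕ} {A : Matrix (Fin k) (Fin k) F} {β : Fin k → F} {m : ℕ} (hk : 0 < k) (hm : 1 ≤ m)
    (hdet : ∏ i, β i = 1) (h : Split A β m) : IsComm A := by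
  obtain ⟨P, P', X, Y, Y', hPP, hPAP, hYY, hX, ⟨K₁, hK₁, hXK⟩, ⟨K₂, hK₂, hYK⟩⟩ := h
  refine IsComm.conj (A := X * Y) ?_ hPP ?_
  swap
  · rw [← hPAP, ← mul_assoc, ← mul_assoc, mul_eq_one_comm.1 hPP, one_mul, mul_assoc, mul_eq_one_comm.1 hPP, mul_one]
  obtain ⟨K₁', hK₁'⟩ : ∃ K₁', K₁ * K₁' = 1 := ⟨K₁⁻¹, Matrix.mul_nonsing_inv K₁ hK₁⟩
  have hNK : nf β m * K₁' = K₁' * X := by
    calc nf β m * K₁' = K₁' * K₁ * (nf β m * K₁') := by rw [mul_eq_one_comm.1 hK₁', one_mul]
      _ = K₁' * (K₁ * nf β m) * K₁' := by simp only [mul_assoc]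
      _ = K₁' * X := by rw [← hXK, mul_assoc, mul_assoc, hK₁', mul_one]
  set D := Matrix.diagonal (fun i : Fin k => if i = ⟨0, hk⟩ then K₁.det * K₂.det⁻¹ else 1) with hD
  set Z := K₂ * D * K₁' with hZ
  have hYZ : Y' * Z = Z * X := by
    calc Y' * Z = Y' * K₂ * D * K₁' := by simp only [hZ, mul_assoc]
      _ = K₂ * (nf β m * D) * K₁' := by rw [hYK, mul_assoc K₂]
      _ = K₂ * (D * nf β m) * K₁' := by rw [← comm_diag_one β hm hk, ← hD]
      _ = K₂ * D * (nf β m * K₁') := by simp only [mul_assoc]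
      _ = Z * X := by rw [hNK]; simp only [hZ, mul_assoc]
  refine ⟨X, Z, hX.trans hdet, ?_, ?_⟩
  · have h1 : K₁.det * K₁'.det = 1 := by rw [← det_mul, hK₁', det_one]
    have h2 : D.det = K₁.det * K₂.det⁻¹ := by
      rw [hD, det_diagonal, Finset.prod_ite_eq']
      simp
    rw [hZ, det_mul, det_mul, h2]
    calc K₂.det * (K₁.det * K₂.det⁻¹) * K₁'.det = (K₂.det * K₂.det⁻¹) * (K₁.det * K₁'.det) := by ring
      _ = 1 := by rw [mul_inv_cancel₀ hK₂.ne_zero, h1, one_mul]
  · rw [← hYZ, mul_assoc X Y, ← mul_assoc Y, hYY, one_mul]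

/-- Non-scalar matrices of determinant one over a field with at least four elements. -/
theorem isComm_of_not_scalar (h4 : Four F) {n : ℕ} {A : Matrix (Fin (n + 2)) (Fin (n + 2)) F} (hdet : A.det = 1)
    (hA : ∀ c : F, A ≠ c • 1) : IsComm A := by
  obtain ⟨b, hb0, hb1, hbn⟩ := h4 0 1 (-1)
  let β : Fin (n + 2) → F := Fin.cons b (Fin.cons b⁻¹ fun _ => 1)
  have hinv1 : b⁻¹ ≠ 1 := fun h => hb1 (inv_eq_one.1 h)
  have hne : b ≠ b⁻¹ := fun h => by
    have h2 : b * b = 1 := by nth_rewrite 2 [h]; exact mul_inv_cancel₀ hb0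
    rcases mul_self_eq_one_iff.1 h2 with h' | h'
    · exact hb1 h'
    · exact hbn h'
  have hr : Runs β 2 1 := by
    refine ⟨fun i hi j hj => ?_, fun i hi => ?_⟩
    · induction i using Fin.cases with
      | zero =>
        induction j using Fin.cases with
        | zero => exact absurd rfl hj
        | succ j =>
          induction j using Fin.cases with
          | zero => simpa [β] using hne.symm
          | succ j => simpa [β] using hb1.symm
      | succ i =>
        induction i using Fin.cases with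
        | zero =>
          induction j using Fin.cases with
          | zero => simpa [β] using hne
          | succ j =>
            induction j using Fin.cases with
            | zero => exact absurd rfl hj
            | succ j => simpa [β] using hinv1.symm
        | succ i => simp at hi
    · induction i using Fin.cases with
      | zero => simp at hi
      | succ i =>
        induction i using Fin.cases with
        | zero => simp at hi
        | succ i => simp [β]
  have hβ : ∀ i, β i ≠ 0 := by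
    intro i
    induction i using Fin.cases with
    | zero => simpa [β] using hb0
    | succ i =>
      induction i using Fin.cases with
      | zero => simpa [β] using hb0
      | succ i => simp [β]
  refine isComm_of_split (β := β) (m := 2) (by omega) (by omega) ?_
    (split_of_not_scalar h4 hdet hA hβ hr (Or.inl le_rfl))
  simp [β, Fin.prod_univ_succ, hb0]

section scalar

/-- A primitive root of odd order, as a scalar matrix of that size. -/
theorem isComm_scalar_odd {e : ℕ} {c : F} (hc : c ^ (2 * e + 1) = 1) :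
    IsComm (c • (1 : Matrix (Fin (2 * e + 1)) (Fin (2 * e + 1)) F)) := by
  refine ⟨Matrix.diagonal fun i => c ^ (i : ℕ), (1 : Matrix (Fin (2 * e + 1)) (Fin (2 * e + 1)) F).submatrix
    (finRotate (2 * e + 1)).symm id, ?_, ?_, ?_⟩
  · rw [det_diagonal, Fin.prod_univ_eq_prod_range (fun i => c ^ i) (2 * e + 1), Finset.prod_pow_eq_pow_sum]
    have h : ∑ i ∈ Finset.range (2 * e + 1), i = (2 * e + 1) * e := by
      have h1 := Finset.sum_range_id_mul_two (2 * e + 1)
      simp only [add_tsub_cancel_right] at h1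
      rw [← Nat.mul_left_inj (show 2 ≠ 0 by omega), h1]
      ring
    rw [h, pow_mul, hc, one_pow]
  · rw [det_permute, det_one, mul_one, Equiv.Perm.sign_symm, sign_finRotate]
    simp [pow_mul]
  · ext i j
    rw [smul_mul_assoc, one_mul, Matrix.smul_apply, smul_eq_mul, mul_diagonal, diagonal_mul,
      submatrix_apply, id_eq, Matrix.one_apply]
    by_cases h : (finRotate (2 * e + 1)).symm i = j
    · obtain rfl : i = finRotate (2 * e + 1) j := by rw [← h, Equiv.apply_symm_apply]
      rw [if_pos h, one_mul, mul_one, coe_finRotate]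
      by_cases hl : j = Fin.last (2 * e)
      · rw [if_pos hl, hl, Fin.val_last, pow_zero, ← pow_succ', hc]
      · rw [if_neg hl, pow_succ']
    · rw [if_neg h, zero_mul, mul_zero, mul_zero]

theorem exists_norm_neg_one [Finite F] {γ : F} (hγ : γ ≠ 0) : ∃ u v : F, u ^ 2 - γ * v ^ 2 = -1 := by
  classical
  have := Fintype.ofFinite F
  by_cases h1 : (-1 : F) = 1
  · exact ⟨1, 0, by rw [h1]; ring⟩
  have h2 : Fintype.card F % 2 = 1 := by
    by_contra h
    have h2' : ringChar F = 2 := FiniteField.even_card_iff_char_two.2 (by omega)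
    have : CharP F 2 := h2' ▸ ringChar.charP F
    exact h1 (CharTwo.neg_eq 1)
  obtain ⟨a, b, hab⟩ := FiniteField.exists_root_sum_quadratic (f := Polynomial.X ^ 2 + Polynomial.C 1)
    (g := Polynomial.C (-γ) * Polynomial.X ^ 2) (by rw [Polynomial.degree_X_pow_add_C (by omega)]; rfl)
    (Polynomial.degree_C_mul_X_pow 2 (neg_ne_zero.2 hγ)) h2
  simp at hab
  exact ⟨a, b, by linear_combination hab⟩

/-- Two by two blocks for a primitive root of order `2 e`. -/
theorem isComm_scalar_even [Finite F] {e : ℕ} {c : F} (he : 0 < e) (hce : c ^ e = -1) :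
    IsComm (c • (1 : Matrix (Fin e × Fin 2) (Fin e × Fin 2) F)) := by
  classical
  have hc0 : c ≠ 0 := fun h => by rw [h, zero_pow he.ne'] at hce; exact neg_ne_zero.2 one_ne_zero hce.symm
  have hc2 : c ^ (2 * e) = 1 := by rw [mul_comm, pow_mul, hce]; ring
  obtain ⟨e', rfl⟩ : ∃ e', e = e' + 1 := ⟨e - 1, by omega⟩
  set ρ := finRotate (e' + 1) with hρ
  set γ : Fin (e' + 1) → F := fun j => c ^ (2 * (j : ℕ) + 1) with hγ
  have hγρ : ∀ j, γ (ρ j) = c * c * γ j := by
    intro j
    simp only [hγ, hρ, coe_finRotate]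
    by_cases hl : j = Fin.last e'
    · rw [if_pos hl, hl, Fin.val_last]
      calc c ^ (2 * 0 + 1) = c ^ (2 * (e' + 1)) * c := by rw [hc2]; ring
        _ = c * c * c ^ (2 * e' + 1) := by ring
    · rw [if_neg hl]
      ring
  obtain ⟨u, v, huv⟩ := exists_norm_neg_one (γ := γ 0) (pow_ne_zero _ hc0)
  let R : Fin (e' + 1) → Matrix (Fin 2) (Fin 2) F := fun j => !![0, γ j; 1, 0]
  let W : Fin (e' + 1) → Matrix (Fin 2) (Fin 2) F := fun j => if j = 0 then !![u, v * γ 0; v, u] else 1
  let bd : (Fin (e' + 1) → Matrix (Fin 2) (Fin 2) F) → Matrix (Fin (e' + 1) × Fin 2) (Fin (e' + 1) × Fin 2) F :=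
    fun M => (Matrix.blockDiagonal M).submatrix Prod.swap Prod.swap
  have hbd : ∀ M j i j' i', bd M (j, i) (j', i') = if j = j' then M j i i' else 0 := fun M j i j' i' => by
    simp [bd, Matrix.blockDiagonal_apply]
  have hdetbd : ∀ M, (bd M).det = ∏ j, (M j).det := fun M => by
    show ((Matrix.blockDiagonal M).submatrix (Equiv.prodComm _ _) (Equiv.prodComm _ _)).det = _
    rw [det_submatrix_equiv_self, det_blockDiagonal]
  let Z : Matrix (Fin (e' + 1) × Fin 2) (Fin (e' + 1) × Fin 2) F :=
    (1 : Matrix (Fin (e' + 1)) (Fin (e' + 1)) F).submatrix ρ.symm id ⊗ₖ !![c, 0; 0, 1]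
  have hWR : bd W * bd R = bd R * bd W := by
    simp only [bd]
    rw [← submatrix_mul _ _ _ Prod.swap _ Prod.swap_bijective, ← submatrix_mul _ _ _ Prod.swap _ Prod.swap_bijective,
      ← blockDiagonal_mul, ← blockDiagonal_mul]
    congr 2
    funext j
    by_cases hj : j = 0
    · subst hj
      simp [W, R, mul_comm]
    · simp [W, hj]
  have hZR : bd R * Z = c • (Z * bd R) := by
    ext ⟨j, i⟩ ⟨j', i'⟩
    simp only [Matrix.smul_apply, smul_eq_mul, Matrix.mul_apply, Fintype.sum_prod_type, hbd, ite_mul, zero_mul,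
      mul_ite, mul_zero, Finset.sum_ite_irrel, Finset.sum_const_zero]
    simp only [Finset.sum_ite_eq, Finset.sum_ite_eq', Finset.mem_univ, if_true]
    simp only [Z, kroneckerMap_apply, submatrix_apply, id_eq, Matrix.one_apply]
    by_cases h : ρ.symm j = j'
    · have hj : j = ρ j' := by rw [← h, Equiv.apply_symm_apply]
      simp only [h, if_true, one_mul, Fin.sum_univ_two]
      fin_cases i <;> fin_cases i' <;> simp [R, hj, hγρ] <;> ring
    · simp [h]
  refine ⟨bd R, Z * bd W, ?_, ?_, ?_⟩
  · rw [hdetbd]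
    simp only [R, det_fin_two_of, mul_one, zero_mul, zero_sub]
    rw [Finset.prod_neg, Finset.card_univ, Fintype.card_fin]
    simp only [hγ]
    rw [Fin.prod_univ_eq_prod_range (fun i => c ^ (2 * i + 1)) (e' + 1), Finset.prod_pow_eq_pow_sum]
    have h : ∀ n, ∑ i ∈ Finset.range n, (2 * i + 1) = n * n := by
      intro n
      induction n with
      | zero => rfl
      | succ n ih => rw [Finset.sum_range_succ, ih]; ring
    rw [h, pow_mul, hce, ← mul_pow]
    simp
  · rw [det_mul, hdetbd]
    simp only [Z, det_kronecker, det_permute, det_one, mul_one, Fintype.card_fin, det_fin_two_of, mul_zero,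
      sub_zero]
    rw [Finset.prod_eq_single (0 : Fin (e' + 1))]
    · simp only [W, if_pos, det_fin_two_of]
      have hs : ((Equiv.Perm.sign ρ.symm : ℤ) : F) ^ 2 = 1 := by
        rcases Int.units_eq_one_or (Equiv.Perm.sign ρ.symm) with h | h <;> simp [h]
      rw [hs, hce, one_mul]
      linear_combination -huv
    · intro j _ hj
      simp [W, hj]
    · simp
  · rw [smul_mul_assoc, one_mul, mul_assoc Z, hWR, ← mul_assoc Z, ← smul_mul_assoc, ← hZR, mul_assoc]

/-- Scalar matrices of determinant one over a finite field. -/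
theorem isComm_scalar [Finite F] {n : ℕ} {c : F} (hn : 0 < n) (hc : c ^ n = 1) :
    IsComm (c • (1 : Matrix (Fin n) (Fin n) F)) := by
  classical
  obtain ⟨m, hm⟩ : orderOf c ∣ n := orderOf_dvd_of_pow_eq_one hc
  rcases Nat.even_or_odd (orderOf c) with ⟨e, he⟩ | ⟨e, he⟩
  · have hce : c ^ e = -1 := by
      have h1 : c ^ e * c ^ e = 1 := by rw [← pow_add, ← he, pow_orderOf_eq_one]
      rcases mul_self_eq_one_iff.1 h1 with h | h
      · have h2 : orderOf c ∣ e := orderOf_dvd_of_pow_eq_one h
        have h3 : 0 < orderOf c := (isOfFinOrder_iff_pow_eq_one.2 ⟨n, hn, hc⟩).orderOf_pos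
        have := Nat.le_of_dvd (by omega) h2
        omega
      · exact h
    have he0 : 0 < e := by
      rcases Nat.eq_zero_or_pos e with rfl | h
      · exact absurd hm (by rw [he]; omega)
      · exact h
    have h := ((isComm_scalar_even he0 hce).blockDiagonal (o := Fin m)).reindex
      ((Fintype.equivFinOfCardEq (show Fintype.card ((Fin e × Fin 2) × Fin m) = n by
        simp only [Fintype.card_prod, Fintype.card_fin]
        rw [hm, he]; ring)))
    have h1 : (Matrix.blockDiagonal fun _ : Fin m => c • (1 : Matrix (Fin e × Fin 2) (Fin e × Fin 2) F)) = c • 1 := by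
      rw [show (fun _ : Fin m => c • (1 : Matrix (Fin e × Fin 2) (Fin e × Fin 2) F)) =
        c • (1 : Fin m → Matrix (Fin e × Fin 2) (Fin e × Fin 2) F) from rfl, blockDiagonal_smul, blockDiagonal_one]
    rw [h1, reindex_apply] at h
    simpa [Matrix.submatrix_smul, Matrix.submatrix_one_equiv] using h
  · have hc' : c ^ (2 * e + 1) = 1 := by rw [← he]; exact pow_orderOf_eq_one c
    have h := ((isComm_scalar_odd hc').blockDiagonal (o := Fin m)).reindex
      ((Fintype.equivFinOfCardEq (show Fintype.card (Fin (2 * e + 1) × Fin m) = n by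
        simp only [Fintype.card_prod, Fintype.card_fin]
        rw [hm, he])))
    have h1 : (Matrix.blockDiagonal fun _ : Fin m => c • (1 : Matrix (Fin (2 * e + 1)) (Fin (2 * e + 1)) F)) = c • 1 := by
      rw [show (fun _ : Fin m => c • (1 : Matrix (Fin (2 * e + 1)) (Fin (2 * e + 1)) F)) =
        c • (1 : Fin m → Matrix (Fin (2 * e + 1)) (Fin (2 * e + 1)) F) from rfl, blockDiagonal_smul, blockDiagonal_one]
    rw [h1, reindex_apply] at h
    simpa [Matrix.submatrix_smul, Matrix.submatrix_one_equiv] using h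

/-- Every matrix of determinant one over a finite field with at least four elements. -/
theorem isComm_of_four [Finite F] (h4 : Four F) {n : ℕ} (hn : 2 ≤ n) {A : Matrix (Fin n) (Fin n) F}
    (hdet : A.det = 1) : IsComm A := by
  by_cases hA : ∃ c : F, A = c • 1
  · obtain ⟨c, rfl⟩ := hA
    refine isComm_scalar (by omega) ?_
    simpa [Matrix.det_smul] using hdet
  · obtain ⟨k, rfl⟩ : ∃ k, n = k + 2 := ⟨n - 2, by omega⟩
    exact isComm_of_not_scalar h4 hdet fun c h => hA ⟨c, h⟩

end scalar

end Cfsg.Agent.Lib.Sourour
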