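import Cfsg.Agent.Lib.Sourour.Cov

/-!
Existence of the covector in the triangular factorisation.
-/

set_option autoImplicit false

namespace Cfsg.Agent.Lib.Sourour

open Matrix Module

variable {F : Type*} [Field F] {k : ℕ} {A : Matrix (Fin k) (Fin k) F} {x y v : Fin k → F}

theorem avoid_fv (hv : VecOK A x y v) :
    ¬kerDot ((A - 1) *ᵥ v) ≤ kerDot v := by
  have hw0 : (A - 1) *ᵥ v ≠ 0 := fun h => hv.indep 0 (by rw [h, zero_smul])
  obtain ⟨f, hfw, hfv⟩ := exists_dot (S := Submodule.span F {(A - 1) *ᵥ v}) (z := v) (fun h => by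
    obtain ⟨c, hc⟩ := Submodule.mem_span_singleton.1 h
    by_cases hc0 : c = 0
    · exact hv.xv (by rw [← hc, hc0, zero_smul, dotProduct_zero])
    · exact hv.indep c⁻¹ (((inv_smul_eq_iff₀ hc0).2 hc.symm).symm))
  exact fun h => hfv (h (hfw _ (Submodule.mem_span_singleton_self _)))

theorem avoid_fy (hy : y ≠ 0) (hv : VecOK A x y v) : ¬kerDot ((A - 1) *ᵥ v) ≤ kerDot y := by
  obtain ⟨f, hfw, hfy⟩ := exists_dot (S := Submodule.span F {(A - 1) *ᵥ v}) (z := y) (fun h => by
    obtain ⟨c, hc⟩ := Submodule.mem_span_singleton.1 h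
    by_cases hc0 : c = 0
    · exact hy (by rw [← hc, hc0, zero_smul])
    · exact hv.my c⁻¹ (((inv_smul_eq_iff₀ hc0).2 hc.symm).symm))
  exact fun h => hfy (h (hfw _ (Submodule.mem_span_singleton_self _)))

theorem avoid_fM (hA : Good A) (v : Fin k → F) : ¬kerDot ((A - 1) *ᵥ v) ≤ annRange (A - 1) := by
  obtain ⟨z, hz⟩ : ∃ z, (A - 1) *ᵥ z ∉ Submodule.span F {(A - 1) *ᵥ v} := by
    by_contra hall
    push Not at hall
    exact hA.2 ⟨(A - 1) *ᵥ v, fun z => by
      obtain ⟨c, hc⟩ := Submodule.mem_span_singleton.1 (hall z)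
      exact ⟨c, hc.symm⟩⟩
  obtain ⟨f, hfw, hfz⟩ := exists_dot hz
  intro h
  refine hfz ?_
  have h1 := LinearMap.mem_ker.1 (h (hfw _ (Submodule.mem_span_singleton_self _) : f ∈ kerDot _))
  rw [dotProduct_mulVec, show f ᵥ* (A - 1) = 0 from h1, zero_dotProduct]

theorem not_le_span_singleton (hk : 3 ≤ k) (w f : Fin k → F) : ¬kerDot w ≤ Submodule.span F {f} := by
  intro h
  have h1 := Submodule.finrank_mono h
  have h2 := finrank_kerDot w
  have h3 := finrank_span_singleton_le f
  omega

theorem not_le_span_pair (hk : 4 ≤ k) (w f g : Fin k → F) : ¬kerDot w ≤ Submodule.span F {f, g} := by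
  intro h
  have h1 := Submodule.finrank_mono h
  have h2 := finrank_kerDot w
  have h3 := finrank_span_two_le f g
  omega

/-- In dimension three, if `v, Mv, M²v` are dependent then the trace condition holds for every covector. -/
theorem plane_case {A : Matrix (Fin 3) (Fin 3) F} {x y v : Fin 3 → F} (hA : Good A) (hdet : A.det = 1)
    (hv : VecOK A x y v) (a b : F)
    (hab : (A - 1) *ᵥ ((A - 1) *ᵥ v) = a • v + b • ((A - 1) *ᵥ v)) : a ≠ A.trace - 3 := by
  classical
  intro htr
  set M := A - 1 with hM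
  set w := M *ᵥ v with hw
  have hAu : ∀ u, A *ᵥ u = u + M *ᵥ u := fun u => by rw [hM, sub_mulVec, one_mulVec, add_sub_cancel]
  set P := Submodule.span F ({v, w} : Set (Fin 3 → F))
  obtain ⟨e, he⟩ : ∃ e, e ∉ P := by
    have : P ≠ ⊤ := by
      intro h
      have h1 := finrank_span_two_le v w
      rw [show Submodule.span F ({v, w} : Set (Fin 3 → F)) = ⊤ from h, finrank_top, finrank_pi,
        Fintype.card_fin] at h1
      omega
    by_contra hall
    push Not at hall
    exact this (Submodule.eq_top_iff'.2 hall)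
  let B : Matrix (Fin 3) (Fin 3) F := Matrix.of fun i => ![v i, w i, e i]
  have hB : ∀ u : Fin 3 → F, B *ᵥ u = u 0 • v + u 1 • w + u 2 • e := fun u => by
    funext i
    simp [B, Matrix.mulVec, dotProduct, Fin.sum_univ_three]
    ring
  have hBinj : Function.Injective B.mulVec := by
    intro p q hpq
    have h0 : B *ᵥ (p - q) = 0 := by rw [mulVec_sub, hpq, sub_self]
    rw [hB] at h0
    have h2 : (p - q) 2 = 0 := by
      by_contra hne
      refine he ?_
      have : e = ((p - q) 2)⁻¹ • (-((p - q) 0 • v + (p - q) 1 • w)) := by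
        rw [← eq_neg_of_add_eq_zero_right h0, smul_smul, inv_mul_cancel₀ hne, one_smul]
      rw [this]
      exact P.smul_mem _ (P.neg_mem (P.add_mem (P.smul_mem _ (Submodule.subset_span (by simp)))
        (P.smul_mem _ (Submodule.subset_span (by simp)))))
    rw [h2, zero_smul, add_zero] at h0
    have h1 : (p - q) 1 = 0 := by
      by_contra hne
      refine hv.indep (-(((p - q) 1)⁻¹ * (p - q) 0)) ?_
      rw [← hw, neg_smul, mul_smul, ← smul_neg, ← eq_neg_of_add_eq_zero_right h0, smul_smul,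
        inv_mul_cancel₀ hne, one_smul]
    rw [h1, zero_smul, add_zero] at h0
    have h0' : (p - q) 0 = 0 := by
      rcases smul_eq_zero.1 h0 with h | h
      · exact h
      · exact absurd (by rw [h, dotProduct_zero]) hv.xv
    refine sub_eq_zero.1 (funext fun i => ?_)
    fin_cases i <;> assumption
  have hBu : IsUnit B := Matrix.mulVec_injective_iff_isUnit.1 hBinj
  obtain ⟨q, hq⟩ := (LinearMap.injective_iff_surjective (f := B.mulVecLin)).1 hBinj (A *ᵥ e)
  rw [mulVecLin_apply, hB] at hq
  let N : Matrix (Fin 3) (Fin 3) F := !![1, a, q 0; 1, 1 + b, q 1; 0, 0, q 2]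
  have hAB : A * B = B * N := by
    refine ext_mulVec' fun u => ?_
    rw [← mulVec_mulVec, ← mulVec_mulVec, hB, hB, mulVec_add, mulVec_add, mulVec_smul, mulVec_smul,
      mulVec_smul, hAu v, hAu w, ← hw, hab, ← hq]
    funext i
    simp [N, Matrix.mulVec, dotProduct, Fin.sum_univ_three]
    ring
  have hdN : N.det = 1 := by
    have h1 := congrArg Matrix.det hAB
    rw [det_mul, det_mul, hdet, one_mul] at h1
    have hB0 : B.det ≠ 0 := fun h => by
      have := (Matrix.isUnit_iff_isUnit_det B).1 hBu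
      rw [h] at this
      exact not_isUnit_zero this
    exact (mul_right_eq_self₀.1 h1.symm).resolve_right hB0
  have htN : N.trace = A.trace := by
    obtain ⟨U, hU⟩ := hBu
    have hN : N = (↑U⁻¹ : Matrix (Fin 3) (Fin 3) F) * A * B := by
      rw [mul_assoc, hAB, ← hU, Units.inv_mul_cancel_left]
    rw [hN, ← hU, Matrix.trace_units_conj' U A]
  simp [N, Matrix.det_fin_three] at hdN
  have htN' : 1 + (1 + b) + q 2 = A.trace := by
    rw [← htN, Matrix.trace_fin_three]
    simp [N]
  have hθ : q 2 = 1 := by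
    have h : (q 2 - 1) * (q 2 - 1) = 0 := by linear_combination -hdN + q 2 * htN' - q 2 * htr
    exact sub_eq_zero.1 (mul_self_eq_zero.1 h)
  -- the image of `M` lies in the plane
  have hle : LinearMap.range M.mulVecLin ≤ P := by
    rintro z ⟨z, rfl⟩
    obtain ⟨p, rfl⟩ := (LinearMap.injective_iff_surjective (f := B.mulVecLin)).1 hBinj z
    have hMe : M *ᵥ e = q 0 • v + q 1 • w := by
      have h := hq
      rw [hAu, hθ, one_smul, add_comm e] at h
      exact (add_right_cancel h).symm
    rw [mulVecLin_apply, mulVecLin_apply, hB, mulVec_add, mulVec_add, mulVec_smul, mulVec_smul, mulVec_smul,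
      ← hw, hab, hMe]
    refine P.add_mem (P.add_mem (P.smul_mem _ (Submodule.subset_span (by simp))) (P.smul_mem _ ?_))
      (P.smul_mem _ ?_)
    · exact P.add_mem (P.smul_mem _ (Submodule.subset_span (by simp))) (P.smul_mem _ (Submodule.subset_span (by simp)))
    · exact P.add_mem (P.smul_mem _ (Submodule.subset_span (by simp))) (P.smul_mem _ (Submodule.subset_span (by simp)))
  have hr2 := finrank_rangeM hA
  rw [← hM] at hr2
  have hP2 : finrank F P ≤ 2 := finrank_span_two_le v w
  have hI : LinearMap.range M.mulVecLin ≠ ⊤ := by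
    intro h
    rw [h, top_le_iff] at hle
    rw [hle, finrank_top, finrank_pi, Fintype.card_fin] at hP2
    omega
  refine hv.proper hI ?_
  rw [← hM, Submodule.eq_of_le_of_finrank_le hle (by omega)]
  exact Submodule.subset_span (by simp)

theorem exists_cov (h4 : Four F) (hk : 2 ≤ k) (hA : Good A) (hdet : A.det = 1) (hy : y ≠ 0) (hv : VecOK A x y v) :
    ∃ f, CovOK A y v f := by
  classical
  set w := (A - 1) *ᵥ v with hw
  have hV := avoid_fv hv
  have hY := avoid_fy hy hv
  have hR := avoid_fM hA v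
  -- a line holding every scalar-bad covector
  obtain ⟨g₃, hg₃⟩ : ∃ g₃ : Fin k → F, 3 ≤ k → ∀ f, f ⬝ᵥ w = 0 → ∀ c, BadScalar A v f c →
      f ∈ Submodule.span F ({g₃} : Set (Fin k → F)) := by
    by_cases hex : 3 ≤ k ∧ ∃ g, g ⬝ᵥ w = 0 ∧ ∃ c, BadScalar A v g c
    · obtain ⟨hk3, g, hgw, d, hgd⟩ := hex
      exact ⟨g, fun _ f hfw c hfc => scalar_unique hA hdet hv hk3 hgd hfc hgw hfw⟩
    · exact ⟨0, fun hk3 f hfw c hfc => absurd ⟨hk3, f, hfw, c, hfc⟩ hex⟩
  rcases (show k = 2 ∨ k = 3 ∨ 4 ≤ k by omega) with hk2 | hk3 | hk4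
  · obtain ⟨f, hfw, h1, h2, h3⟩ := exists_notMem_three h4 hV hY hR
    exact ⟨_, CovOK.of_scale h1 hfw h2 h3 (fun h => absurd h (by omega)) (fun h => absurd h (by omega))
      (fun h => absurd h (by omega))⟩
  · subst hk3
    by_cases hz : (A - 1) *ᵥ w ∈ Submodule.span F ({v, w} : Set (Fin 3 → F))
    · obtain ⟨a, b, hab⟩ := Submodule.mem_span_pair.1 hz
      have ha := plane_case hA hdet hv a b hab.symm
      obtain ⟨f, hfw, h1, h2, h3, h5⟩ :=
        exists_notMem_four h4 hV hY hR (not_le_span_singleton le_rfl w g₃)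
      refine ⟨_, CovOK.of_scale h1 hfw h2 h3 (fun h c hc => h5 (hg₃ h f hfw c hc)) (fun h => absurd h (by omega))
        (fun _ h => ?_)⟩
      rw [← hw, ← hab, dotProduct_sub, dotProduct_add, dotProduct_smul, dotProduct_smul, dotProduct_smul,
        mem_kerDot.1 hfw, smul_zero, add_zero, ← sub_smul, smul_eq_zero] at h
      rcases h with h | h
      · exact ha (sub_eq_zero.1 h)
      · exact h1 h
    · have hC : ¬kerDot w ≤ kerDot ((A - 1) *ᵥ w) := by
        obtain ⟨f, hfS, hfz⟩ := exists_dot hz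
        exact fun h => hfz (h (hfS w (Submodule.subset_span (by simp))))
      have hT : ¬kerDot w ≤ kerDot ((A - 1) *ᵥ w - (A.trace - 3) • v) := by
        have hne : (A - 1) *ᵥ w - (A.trace - 3) • v ∉ Submodule.span F ({v, w} : Set (Fin 3 → F)) := fun h =>
          hz ((Submodule.sub_mem_iff_left _ (Submodule.smul_mem _ _ (Submodule.subset_span (by simp)))).1 h)
        obtain ⟨f, hfS, hfz⟩ := exists_dot hne
        exact fun h => hfz (h (hfS w (Submodule.subset_span (by simp))))
      obtain ⟨f, hfw, h1, h2, h3, h5⟩ := exists_notMem_four h4 hV hY hC hT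
      refine ⟨_, CovOK.of_scale h1 hfw h2 (fun h => h3 ?_) (fun _ c hc => ?_) (fun h => absurd h (by omega))
        (fun _ h => h5 h)⟩
      · show f ⬝ᵥ _ = 0
        rw [dotProduct_mulVec, h, zero_dotProduct]
      · -- `M w = (c - 1) w + d (v + w)`
        refine hz ?_
        obtain ⟨d, hd⟩ := hc w hfw
        have hAw : ∀ u, A *ᵥ u = u + (A - 1) *ᵥ u := fun u => by rw [sub_mulVec, one_mulVec, add_sub_cancel]
        rw [hAw, hAw, ← hw] at hd
        refine Submodule.mem_span_pair.2 ⟨d, d + c - 1, ?_⟩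
        rw [sub_eq_iff_eq_add, ← eq_sub_iff_add_eq'] at hd
        rw [hd, sub_smul, add_smul, one_smul, smul_add]
        abel
  · rcases (show finrank F (LinearMap.range (A - 1).mulVecLin) = 2 ∨
        3 ≤ finrank F (LinearMap.range (A - 1).mulVecLin) by have := finrank_rangeM hA; omega) with hr | hr
    · have hK : ¬kerDot w ≤ annSub (LinearMap.ker (A - 1).mulVecLin) := by
        obtain ⟨u, hu, huw⟩ : ∃ u ∈ LinearMap.ker (A - 1).mulVecLin, u ∉ Submodule.span F {w} := by
          by_contra hall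
          push Not at hall
          have h1 := Submodule.finrank_mono (show LinearMap.ker (A - 1).mulVecLin ≤ Submodule.span F {w} from hall)
          have h2 := finrank_span_singleton_le w
          have h3 := (A - 1).mulVecLin.finrank_range_add_finrank_ker
          rw [finrank_pi, Fintype.card_fin, hr] at h3
          omega
        obtain ⟨f, hfw, hfu⟩ := exists_dot huw
        exact fun h => hfu (h (hfw w (Submodule.mem_span_singleton_self w)) u hu)
      obtain ⟨f, hfw, h1, h2, h3, h5⟩ := exists_notMem_four h4 hV hY hR hK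
      obtain ⟨hs, hb⟩ := rank_two_case hA hv hk4 hr h1 hfw
      exact ⟨_, CovOK.of_scale h1 hfw h2 h3 (fun _ c => hs c) (fun _ h => h5 (hb h))
        (fun h => absurd h (by omega))⟩
    · obtain ⟨g₄, hg₄⟩ : ∃ g₄ : Fin k → F, ∀ f, BadRank A v f → f ∈ Submodule.span F ({g₄} : Set (Fin k → F)) := by
        by_cases hex : ∃ g, BadRank A v g
        · obtain ⟨g, hg⟩ := hex
          exact ⟨g, fun f hf => rank_unique hA hv hk4 hr hg hf⟩
        · exact ⟨0, fun f hf => absurd ⟨f, hf⟩ hex⟩
      obtain ⟨f, hfw, h1, h2, h3, h5⟩ := exists_notMem_four h4 hV hY hR (not_le_span_pair hk4 w g₃ g₄)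
      exact ⟨_, CovOK.of_scale h1 hfw h2 h3
        (fun h c hc => h5 (Submodule.span_mono (by simp) (hg₃ h f hfw c hc)))
        (fun _ h => h5 (Submodule.span_mono (by simp) (hg₄ f h)))
        (fun h => absurd h (by omega))⟩

end Cfsg.Agent.Lib.Sourour
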