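import Cfsg.Agent.Lib.Sourour.Blk
import Cfsg.Agent.Lib.Sourour.Pick

/-!
Sourour's triangular factorisation: a matrix of determinant one which is neither scalar nor the identity plus a rank
one map is similar to `L * U`, with prescribed reciprocal diagonals and nowhere vanishing off-diagonals.
-/

set_option autoImplicit false

namespace Cfsg.Agent.Lib.Sourour

open Matrix Module

variable {F : Type*} [Field F]

/-- Lower triangular with diagonal `β` and nonzero subdiagonal. -/
structure IsLo {k : ℕ} (β : Fin k → F) (L : Matrix (Fin k) (Fin k) F) : Prop where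
  zero : ∀ i j : Fin k, i < j → L i j = 0
  diag : ∀ i, L i i = β i
  next : ∀ i j : Fin k, j.val + 1 = i.val → L i j ≠ 0

/-- Upper triangular with diagonal `β` and nonzero superdiagonal. -/
structure IsUp {k : ℕ} (β : Fin k → F) (U : Matrix (Fin k) (Fin k) F) : Prop where
  zero : ∀ i j : Fin k, j < i → U i j = 0
  diag : ∀ i, U i i = β i
  next : ∀ i j : Fin k, i.val + 1 = j.val → U i j ≠ 0

theorem isLo_blk {n : ℕ} {b : F} {β : Fin (n + 1) → F} {c : Fin (n + 1) → F}
    {L : Matrix (Fin (n + 1)) (Fin (n + 1)) F} (hL : IsLo β L) (hc : c 0 ≠ 0) :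
    IsLo (Fin.cons b β : Fin (n + 2) → F) (blk b 0 c L) := by
  refine ⟨fun i j => ?_, fun i => ?_, fun i j => ?_⟩
  · induction i using Fin.cases <;> induction j using Fin.cases <;> simp
    exact fun h => hL.zero _ _ h
  · induction i using Fin.cases <;> simp [hL.diag]
  · induction i using Fin.cases with
    | zero => simp
    | succ i =>
      induction j using Fin.cases with
      | zero =>
        intro h
        simp at h
        rw [blk_s0, h]
        exact hc
      | succ j =>
        intro h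
        simp at h
        rw [blk_ss]
        exact hL.next i j h

theorem isUp_blk {n : ℕ} {b : F} {β : Fin (n + 1) → F} {r : Fin (n + 1) → F}
    {U : Matrix (Fin (n + 1)) (Fin (n + 1)) F} (hU : IsUp β U) (hr : r 0 ≠ 0) :
    IsUp (Fin.cons b β : Fin (n + 2) → F) (blk b r 0 U) := by
  refine ⟨fun i j => ?_, fun i => ?_, fun i j => ?_⟩
  · induction i using Fin.cases <;> induction j using Fin.cases <;> simp
    exact fun h => hU.zero _ _ h
  · induction i using Fin.cases <;> simp [hU.diag]
  · induction j using Fin.cases with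
    | zero => simp
    | succ j =>
      induction i using Fin.cases with
      | zero =>
        intro h
        simp at h
        rw [blk_0s, h]
        exact hr
      | succ i =>
        intro h
        simp at h
        rw [blk_ss]
        exact hU.next i j h

/-- The compression seen inside the ambient space. -/
theorem compress {n : ℕ} {A P P' : Matrix (Fin (n + 1)) (Fin (n + 1)) F} (hPP : P * P' = 1)
    {x' y' : Fin n → F} {D : Matrix (Fin n) (Fin n) F} (hA : P' * A * P = blk 1 x' y' D)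
    {v f : Fin (n + 1) → F} (hv : ∀ i, P i 0 = v i) (hf : ∀ i, P' 0 i = f i) (a : Fin n → F) :
    f ⬝ᵥ (P *ᵥ Fin.cons 0 a) = 0 ∧ A *ᵥ v = P *ᵥ Fin.cons 1 y' ∧
      A *ᵥ (P *ᵥ Fin.cons 0 a) = P *ᵥ Fin.cons (x' ⬝ᵥ a) (D *ᵥ a) := by
  have hP'P : P' * P = 1 := mul_eq_one_comm.1 hPP
  have hAP : A * P = P * blk 1 x' y' D := by rw [← hA, ← mul_assoc, ← mul_assoc, hPP, one_mul]
  have hv' : v = P *ᵥ Fin.cons 1 0 := by
    funext i
    rw [← hv i]
    simp [Matrix.mulVec, dotProduct, Fin.sum_univ_succ]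
  refine ⟨?_, ?_, ?_⟩
  · have h1 : f ⬝ᵥ (P *ᵥ Fin.cons 0 a) = (P' *ᵥ (P *ᵥ Fin.cons 0 a)) 0 := by
      rw [show f = fun i => P' 0 i from funext fun i => (hf i).symm]
      rfl
    rw [h1, mulVec_mulVec, hP'P, one_mulVec, Fin.cons_zero]
  · rw [hv', mulVec_mulVec, hAP, ← mulVec_mulVec, blk_mulVec, mul_one, dotProduct_zero, add_zero, one_smul,
      mulVec_zero, add_zero]
  · rw [mulVec_mulVec, hAP, ← mulVec_mulVec, blk_mulVec, mul_zero, zero_add, zero_smul, zero_add]

theorem next_good {n : ℕ} {A P P' : Matrix (Fin (n + 3)) (Fin (n + 3)) F} (hPP : P * P' = 1)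
    {x' y' : Fin (n + 2) → F} {D : Matrix (Fin (n + 2)) (Fin (n + 2)) F} (hA : P' * A * P = blk 1 x' y' D)
    {y v f : Fin (n + 3) → F} (hv : ∀ i, P i 0 = v i) (hf : ∀ i, P' 0 i = f i) (hc : CovOK A y v f)
    (hdet : (D - vecMulVec y' x').det = 1) : Good (D - vecMulVec y' x') := by
  set D' := D - vecMulVec y' x' with hD'
  have key : ∀ a : Fin (n + 2) → F, f ⬝ᵥ (P *ᵥ Fin.cons 0 a) = 0 ∧
      A *ᵥ (P *ᵥ Fin.cons 0 a) - (x' ⬝ᵥ a) • (A *ᵥ v) = P *ᵥ Fin.cons 0 (D' *ᵥ a) := by
    intro a
    obtain ⟨h1, h2, h3⟩ := compress hPP hA hv hf a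
    refine ⟨h1, ?_⟩
    rw [h2, h3, ← mulVec_smul, ← mulVec_sub]
    congr 1
    funext i
    induction i using Fin.cases <;>
      simp [hD', sub_mulVec, vecMulVec_mulVec, Pi.smul_apply, mul_comm]
  have hcons : ∀ (c : F) (a : Fin (n + 2) → F), (Fin.cons 0 (c • a) : Fin (n + 3) → F) = c • Fin.cons 0 a := by
    intro c a
    funext i
    induction i using Fin.cases <;> simp
  have hdec : ∀ u, f ⬝ᵥ u = 0 → ∃ a, u = P *ᵥ Fin.cons 0 a := by
    intro u hu
    refine ⟨fun s => (P' *ᵥ u) s.succ, ?_⟩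
    have h0 : (P' *ᵥ u) 0 = 0 := by
      rw [← hu]
      exact congrArg (· ⬝ᵥ u) (funext hf)
    have h1 : (Fin.cons 0 fun s => (P' *ᵥ u) s.succ) = P' *ᵥ u := by
      conv_rhs => rw [← cons_tail_eq (P' *ᵥ u), h0]
    rw [h1, mulVec_mulVec, hPP, one_mulVec]
  refine ⟨fun c hcs => hc.scalar (by omega) c fun u hu => ?_, ?_⟩
  · obtain ⟨a, rfl⟩ := hdec u hu
    refine ⟨x' ⬝ᵥ a, ?_⟩
    have h := (key a).2
    rw [hcs, smul_mulVec, one_mulVec, hcons, mulVec_smul] at h
    rw [← h]
    abel
  · rcases (show n = 0 ∨ 0 < n by omega) with rfl | hn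
    · -- two by two: the trace
      rintro ⟨r, hr⟩
      have hd : (D' - 1).det = 0 := by
        by_contra hne
        have hu : IsUnit (D' - 1) := (Matrix.isUnit_iff_isUnit_det _).2 (Ne.isUnit hne)
        have hinj : Function.Injective (D' - 1).mulVec := Matrix.mulVec_injective_iff_isUnit.2 hu
        obtain ⟨a, ha⟩ := hr (Pi.single 0 1)
        obtain ⟨b, hb⟩ := hr (Pi.single 1 1)
        have h0 : (D' - 1) *ᵥ (b • Pi.single 0 1 - a • Pi.single 1 1) = 0 := by
          rw [mulVec_sub, mulVec_smul, mulVec_smul, ha, hb, smul_smul, smul_smul, mul_comm, sub_self]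
        have h1 : (b • Pi.single 0 1 - a • Pi.single 1 1 : Fin 2 → F) = 0 := hinj (h0.trans (mulVec_zero _).symm)
        have hb0 : b = 0 := by simpa using congrFun h1 0
        rw [hb0, zero_smul] at hb
        have h2 := congrFun (hinj (hb.trans (mulVec_zero _).symm)) 1
        simp at h2
      have h2 : D'.trace = 2 := by
        rw [Matrix.det_fin_two] at hd hdet
        simp [Matrix.one_apply] at hd
        rw [Matrix.trace_fin_two]
        linear_combination -hd + hdet
      refine hc.trace rfl ?_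
      obtain ⟨-, hAv, -⟩ := compress hPP hA hv hf 0
      have hP'P : P' * P = 1 := mul_eq_one_comm.1 hPP
      have hv' : v = P *ᵥ Fin.cons 1 0 := by
        funext i
        rw [← hv i]
        simp [Matrix.mulVec, dotProduct, Fin.sum_univ_succ]
      have hMv : (A - 1) *ᵥ v = P *ᵥ Fin.cons 0 y' := by
        rw [sub_mulVec, one_mulVec, hAv, hv', ← mulVec_sub]
        congr 1
        funext i
        induction i using Fin.cases <;> simp
      have hMMv : f ⬝ᵥ ((A - 1) *ᵥ ((A - 1) *ᵥ v)) = x' ⬝ᵥ y' := by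
        obtain ⟨h1, -, h3⟩ := compress hPP hA hv hf y'
        rw [hMv, sub_mulVec, one_mulVec, dotProduct_sub, h1, sub_zero, h3]
        have h4 : ∀ z, f ⬝ᵥ (P *ᵥ z) = (P' *ᵥ (P *ᵥ z)) 0 := fun z => by
          rw [show f = fun i => P' 0 i from funext fun i => (hf i).symm]
          rfl
        rw [h4, mulVec_mulVec, hP'P, one_mulVec, Fin.cons_zero]
      have htr : A.trace = 1 + D.trace := by
        rw [← trace_blk (1 : F) x' y' D, ← hA, Matrix.trace_mul_comm, ← mul_assoc, hPP, one_mul]
      rw [hMMv, htr]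
      rw [hD', Matrix.trace_sub, trace_vecMulVec, dotProduct_comm] at h2
      linear_combination h2.symm
    · rintro ⟨r, hr⟩
      refine hc.rank (by omega) ⟨P *ᵥ Fin.cons 0 r, fun u hu => ?_⟩
      obtain ⟨a, rfl⟩ := hdec u hu
      obtain ⟨d, hd⟩ := hr a
      refine ⟨x' ⬝ᵥ a, d, ?_⟩
      rw [sub_mulVec, one_mulVec] at hd ⊢
      have hd' : D' *ᵥ a = a + d • r := by rw [← hd, add_sub_cancel]
      have h := (key a).2
      rw [hd', show (Fin.cons 0 (a + d • r) : Fin (n + 3) → F) = Fin.cons 0 a + d • Fin.cons 0 r by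
        funext i; induction i using Fin.cases <;> simp, mulVec_add, mulVec_smul, sub_eq_iff_eq_add] at h
      rw [h]
      abel

/-- The factorisation. -/
theorem lu (h4 : Four F) : ∀ (n : ℕ) (A : Matrix (Fin (n + 1)) (Fin (n + 1)) F), A.det = 1 → (0 < n → Good A) →
    ∀ (x y : Fin (n + 1) → F), x ≠ 0 → y ≠ 0 → ∀ β : Fin (n + 1) → F, (∀ i, β i ≠ 0) →
      ∃ P P' L U : Matrix (Fin (n + 1)) (Fin (n + 1)) F, P' * P = 1 ∧ P' * A * P = L * U ∧ IsLo β L ∧
        IsUp (fun i => (β i)⁻¹) U ∧ (x ᵥ* P) 0 ≠ 0 ∧ (P' *ᵥ y) 0 ≠ 0 := by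
  intro n
  induction n with
  | zero =>
    intro A hdet _ x y hx hy β hβ
    have hss : Subsingleton (Fin (0 + 1)) := inferInstanceAs (Subsingleton (Fin 1))
    refine ⟨1, 1, Matrix.diagonal β, Matrix.diagonal fun i => (β i)⁻¹, one_mul 1, ?_, ?_, ?_, ?_, ?_⟩
    · ext i j
      obtain rfl : i = 0 := Subsingleton.elim i 0
      obtain rfl : j = 0 := Subsingleton.elim j 0
      rw [det_fin_one] at hdet
      simp [hdet, hβ]
    · exact ⟨fun i j h => absurd h (by rw [Subsingleton.elim i j]; exact lt_irrefl _), fun i => by simp,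
        fun i j h => absurd h (by omega)⟩
    · exact ⟨fun i j h => absurd h (by rw [Subsingleton.elim i j]; exact lt_irrefl _), fun i => by simp,
        fun i j h => absurd h (by omega)⟩
    · rw [vecMul_one]
      exact fun h => hx (funext fun i => by rw [Subsingleton.elim i 0]; exact h)
    · rw [one_mulVec]
      exact fun h => hy (funext fun i => by rw [Subsingleton.elim i 0]; exact h)
  | succ n ih =>
    intro A hdet hgood x y hx hy β hβ
    have hA := hgood (Nat.succ_pos n)
    obtain ⟨v, hv⟩ := exists_vec h4 (by omega) hA hdet hx hy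
    obtain ⟨f, hc⟩ := exists_cov h4 (by omega) hA hdet hy hv
    obtain ⟨j, hj⟩ := exists_ne hc.fv
    set P := adapt j v f with hPdef
    set P' := adaptInv j v f with hP'def
    have hP'P : P' * P = 1 := adapt_spec hj hc.fv
    have hPP' : P * P' = 1 := adapt_mul_inv hj hc.fv
    have hfA : f ⬝ᵥ (A *ᵥ v) = 1 := by
      have h := hc.fw
      rw [sub_mulVec, one_mulVec, dotProduct_sub, hc.fv, sub_eq_zero] at h
      exact h
    have hA00 : (P' * A * P) 0 0 = 1 := by
      rw [← hfA, dotProduct_mulVec]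
      simp only [Matrix.mul_apply, Matrix.vecMul, dotProduct, hPdef, hP'def, adapt_col, adaptInv_row]
    obtain ⟨x', y', D, hblk⟩ : ∃ x' y' D, P' * A * P = blk 1 x' y' D := by
      refine ⟨fun j => (P' * A * P) 0 j.succ, fun i => (P' * A * P) i.succ 0,
        Matrix.of fun i j => (P' * A * P) i.succ j.succ, ?_⟩
      conv_lhs => rw [eq_blk (P' * A * P), hA00]
    have hcomp := compress hPP' hblk (fun i => adapt_col j v f i) (fun i => adaptInv_row j v f i)
    set D' := D - vecMulVec y' x' with hD'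
    have hfac : blk 1 x' y' D = blk 1 0 y' 1 * blk 1 x' 0 D' := by
      rw [blk_mul]
      simp [hD']
    have hdet' : D'.det = 1 := by
      have h1 := congrArg Matrix.det hblk
      rw [hfac, det_mul, det_mul, det_mul, det_blk_lower, det_blk_upper, det_one, hdet, mul_one,
        ← det_mul, hP'P, det_one] at h1
      simpa using h1.symm
    have hy'0 : y' ≠ 0 := by
      rintro rfl
      obtain ⟨-, h2, -⟩ := hcomp 0
      refine hv.indep 0 ?_
      rw [zero_smul, sub_mulVec, one_mulVec, h2, sub_eq_zero]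
      funext i
      simp [Matrix.mulVec, dotProduct, Fin.sum_univ_succ, hPdef, adapt_col]
    have hx'0 : x' ≠ 0 := by
      rintro rfl
      refine hc.fM ?_
      have hrow : f ᵥ* A = f := by
        have h1 : (fun i => (P' * A * P) 0 i) = Fin.cons 1 0 := by
          rw [hblk]
          funext i
          induction i using Fin.cases <;> simp
        have h3 : f ᵥ* A = (fun i => (P' * A * P) 0 i) ᵥ* P' := by
          have : (fun i => (P' * A * P) 0 i) = (f ᵥ* A) ᵥ* P := by
            funext i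
            rw [vecMul_vecMul]
            simp only [Matrix.mul_apply, Matrix.vecMul, dotProduct, hP'def, adaptInv_row, Finset.sum_mul,
              Finset.mul_sum, mul_assoc]
            exact Finset.sum_comm
          rw [this, vecMul_vecMul, hPP', vecMul_one]
        rw [h3, h1]
        funext i
        simp [Matrix.vecMul, dotProduct, Fin.sum_univ_succ, hP'def, adaptInv_row]
      rw [vecMul_sub, vecMul_one, hrow, sub_self]
    have hgood' : 0 < n → Good D' := by
      intro hn
      obtain ⟨m, rfl⟩ : ∃ m, n = m + 1 := ⟨n - 1, by omega⟩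
      exact next_good hPP' hblk (fun i => adapt_col j v f i) (fun i => adaptInv_row j v f i) hc hdet'
    obtain ⟨Q, Q', L, U, hQ, hLU, hL, hU, hxQ, hyQ⟩ :=
      ih D' hdet' hgood' x' y' hx'0 hy'0 (fun i => β i.succ) (fun i => hβ _)
    set b := β 0 with hb
    have hb0 : b ≠ 0 := hβ 0
    refine ⟨P * blk 1 0 0 Q, blk 1 0 0 Q' * P', blk b 0 (b • (Q' *ᵥ y')) L, blk b⁻¹ (b⁻¹ • (x' ᵥ* Q)) 0 U,
      ?_, ?_, ?_, ?_, ?_, ?_⟩
    · rw [mul_assoc, ← mul_assoc P', hP'P, one_mul, blk_mul]
      simp [hQ, blk_one]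
    · rw [show blk 1 0 0 Q' * P' * A * (P * blk 1 0 0 Q) = blk 1 0 0 Q' * (P' * A * P) * blk 1 0 0 Q by
        simp only [mul_assoc], hblk, blk_mul, blk_mul, blk_mul]
      have hD : D = vecMulVec y' x' + D' := by rw [hD', add_sub_cancel]
      simp only [mul_one, one_mul, zero_dotProduct, dotProduct_zero, add_zero, one_smul, zero_vecMul, mulVec_zero,
        zero_add, smul_zero, vecMulVec_zero, zero_vecMulVec, mul_inv_cancel₀ hb0, smul_smul, vecMul_zero,
        inv_mul_cancel₀ hb0]
      congr 1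
      rw [hD, mul_add, add_mul, mul_vecMulVec, vecMulVec_mul, ← hLU]
      rw [smul_vecMulVec, vecMulVec_smul, smul_smul, mul_inv_cancel₀ hb0, one_smul]
    · have h := isLo_blk (b := b) (c := b • (Q' *ᵥ y')) hL (mul_ne_zero hb0 hyQ)
      rwa [show (Fin.cons b fun i : Fin (n + 1) => β i.succ) = β from cons_tail_eq β] at h
    · have h := isUp_blk (b := b⁻¹) (r := b⁻¹ • (x' ᵥ* Q)) hU (mul_ne_zero (inv_ne_zero hb0) hxQ)
      rwa [show (Fin.cons b⁻¹ fun i : Fin (n + 1) => (β i.succ)⁻¹) = fun i => (β i)⁻¹ from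
        cons_tail_eq fun i => (β i)⁻¹] at h
    · have h0 : (x ᵥ* (P * blk 1 0 0 Q)) 0 = x ⬝ᵥ v := by
        rw [← vecMul_vecMul]
        simp [Matrix.vecMul, dotProduct, Fin.sum_univ_succ (f := fun i => _ * blk 1 0 0 Q i 0), hPdef, adapt_col]
      rw [h0]
      exact hv.xv
    · have h0 : ((blk 1 0 0 Q' * P') *ᵥ y) 0 = f ⬝ᵥ y := by
        rw [← mulVec_mulVec, ← cons_tail_eq (P' *ᵥ y), blk_mulVec, Fin.cons_zero, one_mul, zero_dotProduct,
          add_zero]
        exact congrArg (· ⬝ᵥ y) (funext (adaptInv_row j v f))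
      rw [h0]
      exact hc.fy

end Cfsg.Agent.Lib.Sourour
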