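import Mathlib

/-!
Square matrices split as `1 + n`, and bases adapted to a vector and a covector pairing to `1`.
-/

set_option autoImplicit false

namespace Cfsg.Agent.Lib.Sourour

open Matrix

variable {F : Type*} [Field F] {n : ℕ}

/-- The matrix `[[a, r], [c, D]]`. -/
def blk (a : F) (r c : Fin n → F) (D : Matrix (Fin n) (Fin n) F) : Matrix (Fin (n + 1)) (Fin (n + 1)) F :=
  Matrix.of (Fin.cons (Fin.cons a r) fun i => Fin.cons (c i) (D i))

section basic

variable (a : F) (r c : Fin n → F) (D : Matrix (Fin n) (Fin n) F)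

@[simp] theorem blk_00 : blk a r c D 0 0 = a := by simp [blk]
@[simp] theorem blk_0s (j : Fin n) : blk a r c D 0 j.succ = r j := by simp [blk]
@[simp] theorem blk_s0 (i : Fin n) : blk a r c D i.succ 0 = c i := by simp [blk]
@[simp] theorem blk_ss (i j : Fin n) : blk a r c D i.succ j.succ = D i j := by simp [blk]

end basic

theorem eq_blk (A : Matrix (Fin (n + 1)) (Fin (n + 1)) F) :
    A = blk (A 0 0) (fun j => A 0 j.succ) (fun i => A i.succ 0) (Matrix.of fun i j => A i.succ j.succ) := by
  ext i j
  induction i using Fin.cases <;> induction j using Fin.cases <;> simp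

theorem blk_one : blk (1 : F) 0 0 (1 : Matrix (Fin n) (Fin n) F) = 1 := by
  ext i j
  induction i using Fin.cases <;> induction j using Fin.cases <;>
    simp [Matrix.one_apply, Fin.succ_ne_zero, eq_comm]

theorem blk_mul (a a' : F) (r r' c c' : Fin n → F) (D D' : Matrix (Fin n) (Fin n) F) :
    blk a r c D * blk a' r' c' D' =
      blk (a * a' + r ⬝ᵥ c') (a • r' + r ᵥ* D') (a' • c + D *ᵥ c') (vecMulVec c r' + D * D') := by
  ext i j
  induction i using Fin.cases <;> induction j using Fin.cases <;>
    simp [Matrix.mul_apply, Fin.sum_univ_succ, dotProduct, Matrix.vecMul, Matrix.mulVec, vecMulVec, mul_comm]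

theorem blk_mulVec (a t : F) (r c u : Fin n → F) (D : Matrix (Fin n) (Fin n) F) :
    blk a r c D *ᵥ Fin.cons t u = Fin.cons (a * t + r ⬝ᵥ u) (t • c + D *ᵥ u) := by
  funext i
  induction i using Fin.cases <;> simp [Matrix.mulVec, dotProduct, Fin.sum_univ_succ, mul_comm]

theorem vecMul_blk (a t : F) (r c u : Fin n → F) (D : Matrix (Fin n) (Fin n) F) :
    Fin.cons t u ᵥ* blk a r c D = Fin.cons (t * a + u ⬝ᵥ c) (t • r + u ᵥ* D) := by
  funext i
  induction i using Fin.cases <;> simp [Matrix.vecMul, dotProduct, Fin.sum_univ_succ]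

theorem det_blk_lower (a : F) (c : Fin n → F) (D : Matrix (Fin n) (Fin n) F) :
    (blk a 0 c D).det = a * D.det := by
  rw [Matrix.det_succ_row_zero, Fin.sum_univ_succ]
  simp only [blk_00, blk_0s, Pi.zero_apply, mul_zero, zero_mul, Finset.sum_const_zero, add_zero, Fin.val_zero,
    pow_zero, one_mul, Fin.succAbove_zero]
  congr 2

theorem det_blk_upper (a : F) (r : Fin n → F) (D : Matrix (Fin n) (Fin n) F) :
    (blk a r 0 D).det = a * D.det := by
  rw [← Matrix.det_transpose, ← Matrix.det_transpose D, ← det_blk_lower a r D.transpose]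
  congr 1
  ext i j
  induction i using Fin.cases <;> induction j using Fin.cases <;> simp [Matrix.transpose]

theorem trace_blk (a : F) (r c : Fin n → F) (D : Matrix (Fin n) (Fin n) F) :
    (blk a r c D).trace = a + D.trace := by
  simp [Matrix.trace, Fin.sum_univ_succ]

theorem cons_tail_eq (z : Fin (n + 1) → F) : Fin.cons (z 0) (fun i => z i.succ) = z := by
  funext i
  induction i using Fin.cases <;> simp

/-- A basis starting with `v`, whose other vectors are killed by `f`. -/
def adapt (j : Fin (n + 1)) (v f : Fin (n + 1) → F) : Matrix (Fin (n + 1)) (Fin (n + 1)) F :=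
  Matrix.of fun i => Fin.cons (v i) fun s : Fin n =>
    (Pi.single (j.succAbove s) 1 : Fin (n + 1) → F) i -
      f (j.succAbove s) / f j * (Pi.single j 1 : Fin (n + 1) → F) i

/-- Its inverse. -/
def adaptInv (j : Fin (n + 1)) (v f : Fin (n + 1) → F) : Matrix (Fin (n + 1)) (Fin (n + 1)) F :=
  Matrix.of (Fin.cons f fun s : Fin n => fun i =>
    (Pi.single (j.succAbove s) 1 : Fin (n + 1) → F) i - v (j.succAbove s) * f i)

theorem adapt_spec {j : Fin (n + 1)} {v f : Fin (n + 1) → F} (hj : f j ≠ 0) (hfv : f ⬝ᵥ v = 1) :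
    adaptInv j v f * adapt j v f = 1 := by
  ext a b
  rw [Matrix.mul_apply]
  induction a using Fin.cases with
  | zero =>
    induction b using Fin.cases with
    | zero => simpa [adapt, adaptInv, dotProduct] using hfv
    | succ t =>
      simp [adapt, adaptInv, mul_sub, Finset.sum_sub_distrib, Pi.single_apply, Fin.succ_ne_zero, eq_comm,
        mul_ite, ite_mul]
      field_simp
      ring
  | succ s =>
    induction b using Fin.cases with
    | zero =>
      simp [adapt, adaptInv, sub_mul, Finset.sum_sub_distrib, Pi.single_apply, ite_mul, mul_assoc,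
        ← Finset.mul_sum]
      have h := hfv
      rw [dotProduct] at h
      rw [h, mul_one, sub_self]
    | succ t =>
      simp [adapt, adaptInv, sub_mul, mul_sub, Finset.sum_sub_distrib, Pi.single_apply, ite_mul, mul_ite,
        Fin.succAbove_ne, Fin.succAbove_right_inj, Matrix.one_apply]
      rw [mul_assoc, mul_div_cancel₀ _ hj]
      ring_nf
      simp [eq_comm]

theorem adapt_mul_inv {j : Fin (n + 1)} {v f : Fin (n + 1) → F} (hj : f j ≠ 0) (hfv : f ⬝ᵥ v = 1) :
    adapt j v f * adaptInv j v f = 1 := mul_eq_one_comm.1 (adapt_spec hj hfv)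

theorem adapt_col (j : Fin (n + 1)) (v f : Fin (n + 1) → F) (i : Fin (n + 1)) : adapt j v f i 0 = v i := by
  simp [adapt]

theorem adaptInv_row (j : Fin (n + 1)) (v f : Fin (n + 1) → F) (i : Fin (n + 1)) :
    adaptInv j v f 0 i = f i := by
  simp [adaptInv]

theorem exists_ne {f v : Fin (n + 1) → F} (hfv : f ⬝ᵥ v = 1) : ∃ j, f j ≠ 0 := by
  by_contra h
  push Not at h
  simp [dotProduct, h] at hfv

end Cfsg.Agent.Lib.Sourour
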