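import Mathlib

/-!
Avoiding a few subspaces over a field that has enough elements, and eigenvectors of a non-scalar map lie in two
proper subspaces.
-/

set_option autoImplicit false

namespace Cfsg.Agent.Lib.Sourour

variable {F : Type*} [Field F] {V : Type*} [AddCommGroup V] [Module F V]

/-- The field has at least four elements. -/
def Four (F : Type*) [Field F] : Prop := ∀ a b c : F, ∃ t : F, t ≠ a ∧ t ≠ b ∧ t ≠ c

theorem four_of_card (h : 4 ≤ Cardinal.mk F) : Four F := by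
  intro a b c
  by_contra hcon
  push Not at hcon
  classical
  have hsub : (Set.univ : Set F) ⊆ (({a, b, c} : Finset F) : Set F) := by
    intro t _
    simp only [Finset.coe_insert, Finset.coe_singleton, Set.mem_insert_iff, Set.mem_singleton_iff]
    by_cases h1 : t = a
    · exact Or.inl h1
    · by_cases h2 : t = b
      · exact Or.inr (Or.inl h2)
      · exact Or.inr (Or.inr (hcon t h1 h2))
  have h1 := Cardinal.mk_le_mk_of_subset hsub
  rw [Cardinal.mk_univ, show Cardinal.mk (↥(({a, b, c} : Finset F) : Set F)) = ((({a, b, c} : Finset F)).card : Cardinal) from Cardinal.mk_coe_finset] at h1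
  have h2 : (4 : Cardinal) ≤ (3 : ℕ) := h.trans (h1.trans (by exact_mod_cast Finset.card_le_three))
  exact absurd (show (4 : ℕ) ≤ 3 by exact_mod_cast h2) (by decide)

theorem four_of_fintype [Fintype F] (h : 4 ≤ Fintype.card F) : Four F :=
  four_of_card (by rw [Cardinal.mk_fintype]; exact_mod_cast h)

theorem exists_notMem_pair {U S T : Submodule F V} (hS : ¬U ≤ S) (hT : ¬U ≤ T) :
    ∃ u ∈ U, u ∉ S ∧ u ∉ T := by
  obtain ⟨a, haU, haS⟩ := SetLike.not_le_iff_exists.1 hS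
  obtain ⟨b, hbU, hbT⟩ := SetLike.not_le_iff_exists.1 hT
  by_cases haT : a ∈ T
  · by_cases hbS : b ∈ S
    · exact ⟨a + b, U.add_mem haU hbU, fun h => haS ((S.add_mem_iff_left hbS).1 h),
        fun h => hbT ((T.add_mem_iff_right haT).1 h)⟩
    · exact ⟨b, hbU, hbS, hbT⟩
  · exact ⟨a, haU, haS, haT⟩

theorem atMostOne {S : Submodule F V} {u z : V} (hu : u ∉ S) :
    ∃ r : F, ∀ t : F, t ≠ r → z + t • u ∉ S := by
  by_cases h : ∃ r : F, z + r • u ∈ S
  · obtain ⟨r, hr⟩ := h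
    refine ⟨r, fun t ht hmem => hu ?_⟩
    have h' := S.sub_mem hmem hr
    rw [add_sub_add_left_eq_sub, ← sub_smul] at h'
    exact (S.smul_mem_iff (sub_ne_zero.2 ht)).1 h'
  · push Not at h
    exact ⟨0, fun t _ => h t⟩

theorem exists_notMem_three (h4 : Four F) {U S T R : Submodule F V} (hS : ¬U ≤ S) (hT : ¬U ≤ T) (hR : ¬U ≤ R) :
    ∃ u ∈ U, u ∉ S ∧ u ∉ T ∧ u ∉ R := by
  obtain ⟨u, huU, huS, huT⟩ := exists_notMem_pair hS hT
  by_cases huR : u ∈ R
  swap
  · exact ⟨u, huU, huS, huT, huR⟩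
  obtain ⟨z, hzU, hzR⟩ := SetLike.not_le_iff_exists.1 hR
  obtain ⟨a, ha⟩ := atMostOne (z := z) huS
  obtain ⟨b, hb⟩ := atMostOne (z := z) huT
  obtain ⟨t, hta, htb, -⟩ := h4 a b b
  exact ⟨z + t • u, U.add_mem hzU (U.smul_mem _ huU), ha t hta, hb t htb,
    fun h => hzR ((R.add_mem_iff_left (R.smul_mem _ huR)).1 h)⟩

theorem exists_notMem_four (h4 : Four F) {U S T R Q : Submodule F V} (hS : ¬U ≤ S) (hT : ¬U ≤ T) (hR : ¬U ≤ R)
    (hQ : ¬U ≤ Q) : ∃ u ∈ U, u ∉ S ∧ u ∉ T ∧ u ∉ R ∧ u ∉ Q := by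
  obtain ⟨u, huU, huS, huT, huR⟩ := exists_notMem_three h4 hS hT hR
  by_cases huQ : u ∈ Q
  swap
  · exact ⟨u, huU, huS, huT, huR, huQ⟩
  obtain ⟨z, hzU, hzQ⟩ := SetLike.not_le_iff_exists.1 hQ
  obtain ⟨a, ha⟩ := atMostOne (z := z) huS
  obtain ⟨b, hb⟩ := atMostOne (z := z) huT
  obtain ⟨c, hc⟩ := atMostOne (z := z) huR
  obtain ⟨t, hta, htb, htc⟩ := h4 a b c
  exact ⟨z + t • u, U.add_mem hzU (U.smul_mem _ huU), ha t hta, hb t htb, hc t htc,
    fun h => hzQ ((Q.add_mem_iff_left (Q.smul_mem _ huQ)).1 h)⟩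

/-- The eigenvectors of a map that is no scalar lie in two proper subspaces. -/
theorem eigen_two [Nontrivial V] {T : Module.End F V} (hT : ∀ c : F, T ≠ c • 1) :
    ∃ S₁ S₂ : Submodule F V, S₁ ≠ ⊤ ∧ S₂ ≠ ⊤ ∧ ∀ (c : F) (v : V), T v = c • v → v ∈ S₁ ∨ v ∈ S₂ := by
  classical
  have htop : ∀ c : F, Module.End.eigenspace T c ≠ ⊤ := by
    intro c h
    refine hT c (LinearMap.ext fun v => ?_)
    have : v ∈ Module.End.eigenspace T c := h ▸ Submodule.mem_top
    simpa using Module.End.mem_eigenspace_iff.1 this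
  by_cases hex : ∃ c : F, Module.End.eigenspace T c ≠ ⊥
  · obtain ⟨c, hc⟩ := hex
    refine ⟨Module.End.eigenspace T c, ⨆ (d : F) (_ : d ≠ c), Module.End.eigenspace T d, htop c, ?_, ?_⟩
    · intro h
      have hd : Disjoint (Module.End.eigenspace T c) (⨆ (d : F) (_ : d ≠ c), Module.End.eigenspace T d) :=
        (Module.End.eigenspaces_iSupIndep T) c
      rw [h, disjoint_top] at hd
      exact hc hd
    · intro d v hv
      have hmem : v ∈ Module.End.eigenspace T d := Module.End.mem_eigenspace_iff.2 hv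
      by_cases hd : d = c
      · exact Or.inl (hd ▸ hmem)
      · exact Or.inr (Submodule.mem_iSup_of_mem d (Submodule.mem_iSup_of_mem hd hmem))
  · push Not at hex
    refine ⟨⊥, ⊥, bot_ne_top, bot_ne_top, fun c v hv => Or.inl ?_⟩
    rw [← hex c]
    exact Module.End.mem_eigenspace_iff.2 hv

end Cfsg.Agent.Lib.Sourour
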